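import Cfsg.Agent.H886.Spin.Class
import Cfsg.Agent.H87.Spin.Ones

/-!
# The labels of the faithful characters of the double cover of `A_n` (S4578, CLASS)
-/

set_option autoImplicit false
set_option linter.unusedSectionVars false

namespace Cfsg.Agent.H886.Spin

open Finset Cfsg Cfsg.Agent.H614 Cfsg.Agent.H614.Spin Cfsg.Agent.Characters.Core

theorem exists_label {n : ℕ} (hn : 2 ≤ n) {T : Type} [Group T] [Finite T]
    {P : T →* Equiv.Perm (Fin n)} {z : T} {b : T → ℂ} (h : H686.Spin.SpinData n P z b)
    (χ : IrrCharacter ((alternatingGroup (Fin n)).comap P : Subgroup T))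
    (hχ : ∀ x : ((alternatingGroup (Fin n)).comap P : Subgroup T), (x : T) = z →
      (χ : ((alternatingGroup (Fin n)).comap P : Subgroup T) → ℂ) x ≠
        (χ : ((alternatingGroup (Fin n)).comap P : Subgroup T) → ℂ) 1)
    (t : T) (ht : P t ∉ alternatingGroup (Fin n)) :
    ∃ L : List ℤ, Strict L ∧ L.sum = n ∧ ∃ j k : ℕ,
      ∀ x y : ((alternatingGroup (Fin n)).comap P : Subgroup T), (y : T) = t * x * t⁻¹ →
        (2 : ℂ) ^ j * ((χ : ((alternatingGroup (Fin n)).comap P : Subgroup T) → ℂ) x +
          (χ : ((alternatingGroup (Fin n)).comap P : Subgroup T) → ℂ) y) =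
          2 ^ k * (b x * X (ty (P x)) L) := by
  obtain ⟨L, hL, hLs, j, k, e, he, hfin⟩ := exists_label_sign hn h χ hχ
  refine ⟨L, hL, hLs, j, k, fun x y hy => ?_⟩
  have he1 : e = 1 := by
    rcases he with he | he
    · exact he
    · exfalso
      have h1 := hfin t ht 1 1 (by simp)
      obtain ⟨m, hm, hm1⟩ := isIrr_apply_one χ.2
      obtain ⟨k', hk'⟩ := h.one_pos
      have h2 : ty (P ((1 : ((alternatingGroup (Fin n)).comap P : Subgroup T)) : T)) =
          Multiset.replicate n 1 := by
        rw [Subgroup.coe_one, map_one, ty_one, Fintype.card_fin]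
      rw [h2, Subgroup.coe_one, hk', hm1, he] at h1
      have h3 := X_ones_pos n hL hLs
      have h4 : ((2 : ℤ) ^ j * (m + m) + 2 ^ k * (2 ^ k' * X (Multiset.replicate n 1) L) : ℤ) = 0 := by
        have : (((2 : ℤ) ^ j * (m + m) + 2 ^ k * (2 ^ k' * X (Multiset.replicate n 1) L) : ℤ) : ℂ)
            = 0 := by
          push_cast
          linear_combination h1
        exact_mod_cast this
      have h5 : (0 : ℤ) < 2 ^ j * (m + m) := by positivity
      have h6 : (0 : ℤ) < 2 ^ k * (2 ^ k' * X (Multiset.replicate n 1) L) := by positivity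
      omega
  rw [hfin t ht x y hy, he1, one_mul]

end Cfsg.Agent.H886.Spin
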