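import Cfsg.Agent.H886.Spin.Bridge
import Cfsg.Agent.H87.Spin.Wt

/-!
# Vanishing of `X s L` by the `p`-bar weight (S4578, WV)
-/

set_option autoImplicit false
set_option linter.unusedSectionVars false

namespace Cfsg.Agent.H886.Spin

open Finset Cfsg Cfsg.Agent.H614.Spin

/-- The contribution of a pair of entries. -/
def ee (p : ℕ) (a b : ℤ) : ℤ := (if (p : ℤ) ∣ a + b then 1 else 0) - (if (p : ℤ) ∣ a - b then 1 else 0)

theorem ee_comm (p : ℕ) (a b : ℤ) : ee p a b = ee p b a := by
  unfold ee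
  rw [add_comm a b]
  have : (p : ℤ) ∣ a - b ↔ (p : ℤ) ∣ b - a := dvd_sub_comm
  simp only [this]

theorem ee_neg (p : ℕ) (a b : ℤ) : ee p (-a) b = -ee p a b := by
  unfold ee
  have h1 : (p : ℤ) ∣ -a + b ↔ (p : ℤ) ∣ a - b := by
    rw [show -a + b = -(a - b) by ring]; exact dvd_neg
  have h2 : (p : ℤ) ∣ -a - b ↔ (p : ℤ) ∣ a + b := by
    rw [show -a - b = -(a + b) by ring]; exact dvd_neg
  simp only [h1, h2]; ring

theorem ee_shift {p : ℕ} {r : ℤ} (h : (p : ℤ) ∣ r) (a b : ℤ) : ee p (a - r) b = ee p a b := by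
  unfold ee
  have h1 : (p : ℤ) ∣ a - r + b ↔ (p : ℤ) ∣ a + b := by
    rw [show a - r + b = a + b - r by ring]; exact dvd_sub_left h
  have h2 : (p : ℤ) ∣ a - r - b ↔ (p : ℤ) ∣ a - b := by
    rw [show a - r - b = a - b - r by ring]; exact dvd_sub_left h
  simp only [h1, h2]

theorem ee_zero (p : ℕ) (b : ℤ) : ee p 0 b = 0 := by
  unfold ee
  have : (p : ℤ) ∣ 0 - b ↔ (p : ℤ) ∣ 0 + b := by
    rw [zero_sub, zero_add, dvd_neg]
  simp only [this, sub_self]

/-- The contribution of an entry against a list. -/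
def ec (p : ℕ) (a : ℤ) (L : List ℤ) : ℤ := (L.map (ee p a)).sum

theorem ec_eq (p : ℕ) (a : ℤ) (L : List ℤ) :
    ((L.countP fun b => (p : ℤ) ∣ a + b : ℕ) : ℤ) - (L.countP fun b => (p : ℤ) ∣ a - b : ℕ) =
      ec p a L := by
  unfold ec
  induction L with
  | nil => simp
  | cons b L ih =>
    rw [List.countP_cons, List.countP_cons, List.map_cons, List.sum_cons, ← ih]
    unfold ee
    by_cases h1 : (p : ℤ) ∣ a + b <;> by_cases h2 : (p : ℤ) ∣ a - b <;>
      simp [h1, h2] <;> ring

theorem wt_cons' (p : ℕ) (a : ℤ) (L : List ℤ) : wt p (a :: L) = a / (p : ℤ) + ec p a L + wt p L := by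
  unfold wt
  rw [List.map_cons, List.sum_cons]
  show _ + (((L.countP fun b => (p : ℤ) ∣ a + b : ℕ) : ℤ) -
    (L.countP fun b => (p : ℤ) ∣ a - b : ℕ) + pairs p L) = _
  rw [ec_eq]; ring

theorem ec_cons (p : ℕ) (a b : ℤ) (L : List ℤ) : ec p a (b :: L) = ee p a b + ec p a L := by
  unfold ec; rw [List.map_cons, List.sum_cons]

theorem ec_perm {p : ℕ} {a : ℤ} {L L' : List ℤ} (h : L.Perm L') : ec p a L = ec p a L' :=
  (h.map _).sum_eq

theorem wt_perm {p : ℕ} {L L' : List ℤ} (h : L.Perm L') : wt p L = wt p L' := by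
  induction h with
  | nil => rfl
  | cons a h ih => rw [wt_cons', wt_cons', ih, ec_perm h]
  | swap a b L =>
    rw [wt_cons', wt_cons', wt_cons', wt_cons', ec_cons, ec_cons, ee_comm]; ring
  | trans _ _ ih1 ih2 => exact ih1.trans ih2

theorem wt_omit {p : ℕ} (hp : Odd p) (L₁ : List ℤ) {a b : ℤ} (hab : a + b = 0) (L₂ : List ℤ) :
    wt p (L₁ ++ a :: b :: L₂) = wt p (L₁ ++ L₂) := by
  have h1 : (L₁ ++ a :: b :: L₂).Perm (a :: b :: (L₁ ++ L₂)) := by
    refine List.perm_middle.trans ?_
    exact List.Perm.cons _ List.perm_middle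
  rw [wt_perm h1, wt_cons', wt_cons', ec_cons]
  have hb : b = -a := by omega
  subst hb
  have h2 : ec p (-a) (L₁ ++ L₂) = - ec p a (L₁ ++ L₂) := by
    unfold ec
    rw [show (ee p (-a)) = fun b => - ee p a b from funext fun b => ee_neg p a b]
    induction (L₁ ++ L₂) with
    | nil => simp
    | cons b L ih => rw [List.map_cons, List.sum_cons, ih, List.map_cons, List.sum_cons]; ring
  rw [h2]
  have h3 : a / (p : ℤ) + (-a) / (p : ℤ) + ee p a (-a) = 0 := by
    have hp0 : (0 : ℤ) < p := by exact_mod_cast hp.pos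
    unfold ee
    rw [add_neg_cancel, if_pos (dvd_zero _)]
    have h4 : (p : ℤ) ∣ a - -a ↔ (p : ℤ) ∣ a := by
      rw [sub_neg_eq_add, ← two_mul]
      constructor
      · intro h
        have hc : IsCoprime (p : ℤ) 2 := by
          obtain ⟨k, hk⟩ := hp
          refine ⟨1, -k, ?_⟩
          rw [hk]; push_cast; ring
        exact hc.dvd_of_dvd_mul_left h
      · intro h; exact h.mul_left 2
    simp only [h4]
    by_cases h : (p : ℤ) ∣ a
    · rw [if_pos h, Int.neg_ediv_of_dvd h]; ring
    · rw [if_neg h]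
      have h5 : 0 ≤ a % (p : ℤ) := Int.emod_nonneg _ hp0.ne'
      have h6 : a % (p : ℤ) < p := Int.emod_lt_of_pos _ hp0
      have h7 : a % (p : ℤ) ≠ 0 := fun h' => h (Int.dvd_of_emod_eq_zero h')
      have h8 : (-a) / (p : ℤ) = - (a / (p : ℤ)) - 1 := by
        rw [Int.ediv_eq_iff_of_pos hp0]
        have h9 := Int.mul_ediv_add_emod a (p : ℤ)
        have h10 : 0 < a % (p : ℤ) := lt_of_le_of_ne h5 (Ne.symm h7)
        have h11 : (-(a / (p : ℤ)) - 1) * (p : ℤ) = - ((p : ℤ) * (a / (p : ℤ))) - p := by ring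
        rw [h11]
        constructor <;> linarith
      rw [h8]; ring
  linear_combination h3

theorem wt_append_zero {p : ℕ} (L : List ℤ) : wt p (L ++ [0]) = wt p L := by
  have h1 : (L ++ [0]).Perm (0 :: L) := List.perm_append_singleton _ _
  rw [wt_perm h1, wt_cons']
  have h2 : ec p 0 L = 0 := by
    unfold ec
    rw [show (ee p 0) = fun _ => 0 from funext fun b => ee_zero p b]
    simp
  rw [h2]; simp

theorem wt_shift {p : ℕ} (hp0 : 0 < p) {r : ℤ} (hr : (p : ℤ) ∣ r) (L₁ : List ℤ) (a : ℤ) (L₂ : List ℤ) :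
    (p : ℤ) * wt p (L₁ ++ (a - r) :: L₂) = (p : ℤ) * wt p (L₁ ++ a :: L₂) - r := by
  have h1 : ∀ c : ℤ, wt p (L₁ ++ c :: L₂) = c / (p : ℤ) + ec p c (L₁ ++ L₂) + wt p (L₁ ++ L₂) := by
    intro c
    rw [wt_perm List.perm_middle, wt_cons']
  rw [h1, h1]
  have h2 : ec p (a - r) (L₁ ++ L₂) = ec p a (L₁ ++ L₂) := by
    unfold ec
    rw [show (ee p (a - r)) = ee p a from funext fun b => ee_shift hr a b]
  rw [h2]
  obtain ⟨k, rfl⟩ := hr
  have hp' : (p : ℤ) ≠ 0 := by exact_mod_cast hp0.ne'
  have h3 : (a - p * k) / (p : ℤ) = a / (p : ℤ) - k := by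
    rw [show a - (p : ℤ) * k = a + (p : ℤ) * (-k) by ring, Int.add_mul_ediv_left _ _ hp']; ring
  rw [h3]; ring

/-! ### straightening -/

/-- A function with the rules of `X s`. -/
structure Rules (g : List ℤ → ℤ) : Prop where
  swap : ∀ (L₁ : List ℤ) (a b : ℤ) (L₂ : List ℤ), g (L₁ ++ a :: b :: L₂) + g (L₁ ++ b :: a :: L₂) =
    if a + b = 0 then 2 * (-1) ^ a.natAbs * g (L₁ ++ L₂) else 0
  neg : ∀ (L : List ℤ) (c : ℤ), c < 0 → g (L ++ [c]) = 0
  zero : ∀ L : List ℤ, g (L ++ [0]) = g L

theorem Rules.eq_zero {g : List ℤ → ℤ} (hg : Rules g) {p : ℕ} (hp : Odd p) (m : ℕ) :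
    ∀ L : List ℤ, L.length = m → wt p L < 0 → g L = 0 := by
  induction m using Nat.strong_induction_on with
  | _ m ih =>
    intro L hL hwt
    -- swaps
    have hsw : ∀ (L₁ : List ℤ) (a b : ℤ) (L₂ : List ℤ), (L₁ ++ a :: b :: L₂).length = m →
        wt p (L₁ ++ a :: b :: L₂) < 0 → g (L₁ ++ a :: b :: L₂) = - g (L₁ ++ b :: a :: L₂) := by
      intro L₁ a b L₂ h1 h2
      have h3 := hg.swap L₁ a b L₂
      by_cases hab : a + b = 0
      · rw [if_pos hab] at h3
        have h4 : g (L₁ ++ L₂) = 0 := by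
          simp only [List.length_append, List.length_cons] at h1
          exact ih (L₁ ++ L₂).length (by rw [List.length_append]; omega) _ rfl
            (by rw [← wt_omit hp L₁ hab L₂]; exact h2)
        rw [h4, mul_zero] at h3
        linarith
      · rw [if_neg hab] at h3
        linarith
    -- permutations
    have hperm : ∀ (L' L'' : List ℤ), L'.Perm L'' → ∀ L₀ : List ℤ, (L₀ ++ L').length = m →
        wt p (L₀ ++ L') < 0 → g (L₀ ++ L'') = 0 → g (L₀ ++ L') = 0 := by
      intro L' L'' h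
      induction h with
      | nil => intro L₀ _ _ h; exact h
      | @cons a M M' _ ih' =>
        intro L₀ h1 h2 h3
        have e1 : L₀ ++ a :: M = (L₀ ++ [a]) ++ M := by simp
        have e2 : L₀ ++ a :: M' = (L₀ ++ [a]) ++ M' := by simp
        rw [e1] at h1 h2 ⊢
        rw [e2] at h3
        exact ih' _ h1 h2 h3
      | swap a b M =>
        intro L₀ h1 h2 h3
        rw [hsw L₀ b a M h1 h2, h3, neg_zero]
      | @trans M₁ M₂ M₃ h12 h23 ih1 ih2 =>
        intro L₀ h1 h2 h3
        have e1 : (L₀ ++ M₂).length = m := by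
          rw [List.length_append] at h1 ⊢; rw [← h12.length_eq]; exact h1
        have e2 : wt p (L₀ ++ M₂) < 0 := by
          rw [← wt_perm (List.Perm.append_left L₀ h12)]; exact h2
        exact ih1 L₀ h1 h2 (ih2 L₀ e1 e2 h3)
    -- sort
    have hs := List.pairwise_insertionSort (r := fun a b : ℤ => b ≤ a) L
    have hpS : L.Perm (L.insertionSort (fun a b : ℤ => b ≤ a)) :=
      (List.perm_insertionSort _ L).symm
    have hkey := hperm L _ hpS [] (by simpa using hL) (by simpa using hwt)
    simp only [List.nil_append] at hkey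
    apply hkey
    have hlen : (L.insertionSort (fun a b : ℤ => b ≤ a)).length = m := by
      rw [List.length_insertionSort]; exact hL
    have hwtS : wt p (L.insertionSort (fun a b : ℤ => b ≤ a)) < 0 := by
      rw [← wt_perm hpS]; exact hwt
    generalize L.insertionSort (fun a b : ℤ => b ≤ a) = M at hs hlen hwtS
    clear hkey hperm hpS hwt hL
    -- is it strict?
    by_cases hnd : M.Pairwise (fun a b => b < a)
    · rcases List.eq_nil_or_concat M with rfl | ⟨M', c, rfl⟩
      · exfalso; simp [wt, pairs] at hwtS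
      · rw [List.concat_eq_append] at *
        rcases lt_trichotomy c 0 with hc | hc | hc
        · exact hg.neg M' c hc
        · subst hc
          rw [hg.zero]
          rw [wt_append_zero] at hwtS
          refine ih M'.length ?_ M' rfl hwtS
          rw [← hlen]; simp
        · exfalso
          have hst : Strict (M' ++ [c]) := by
            refine ⟨hnd, fun a ha => ?_⟩
            rw [List.mem_append, List.mem_singleton] at ha
            rcases ha with ha | ha
            · rw [List.pairwise_append] at hnd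
              have := hnd.2.2 a ha c (by simp)
              omega
            · rw [ha]; exact hc
          have := wt_nonneg' (q := p) hst
          omega
    · -- two equal adjacent entries
      have hex : ∃ (L₁ : List ℤ) (a : ℤ) (L₂ : List ℤ), M = L₁ ++ a :: a :: L₂ := by
        clear hsw ih hlen hwtS
        induction M with
        | nil => exact absurd List.Pairwise.nil hnd
        | cons a M ihM =>
          by_cases hM : M.Pairwise (fun a b => b < a)
          · cases M with
            | nil => exact absurd (List.pairwise_singleton _ _) hnd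
            | cons b M =>
              have hab : b ≤ a := (List.pairwise_cons.mp hs).1 b (List.mem_cons_self)
              rcases hab.lt_or_eq with h | h
              · exfalso
                apply hnd
                rw [List.pairwise_cons]
                refine ⟨fun c hc => ?_, hM⟩
                rcases List.mem_cons.mp hc with rfl | hc
                · exact h
                · exact ((List.pairwise_cons.mp hM).1 c hc).trans h
              · exact ⟨[], a, M, by rw [h]; rfl⟩
          · obtain ⟨L₁, c, L₂, hc⟩ := ihM (List.pairwise_cons.mp hs).2 hM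
            exact ⟨a :: L₁, c, L₂, by rw [hc]; rfl⟩
      obtain ⟨L₁, a, L₂, rfl⟩ := hex
      have := hsw L₁ a a L₂ hlen hwtS
      omega

theorem X_rules {s : Multiset ℕ} (hs : ∀ i ∈ s, Odd i) : Rules (X s) :=
  ⟨X_swap hs, fun L c hc => X_append_neg hs L hc, X_append_zero hs⟩

theorem dl_eq_zero {r : ℤ} {g : List ℤ → ℤ} {L : List ℤ}
    (h : ∀ (L₁ : List ℤ) (a : ℤ) (L₂ : List ℤ), L = L₁ ++ a :: L₂ → g (L₁ ++ (a - r) :: L₂) = 0) :
    dl r g L = 0 := by
  induction L generalizing g with
  | nil => rfl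
  | cons b L ih =>
    have h0 : g ((b - r) :: L) = 0 := h [] b L rfl
    rw [dl_cons, h0]
    rw [ih (g := fun M => g (b :: M))]
    · rfl
    · intro L₁ a L₂ hL
      exact h (b :: L₁) a L₂ (by rw [hL]; rfl)

theorem X_add_eq_zero {p : ℕ} (hp : Odd p) (t : Multiset ℕ) :
    (∀ i ∈ t, Odd i ∧ p ∣ i) → ∀ {s : Multiset ℕ}, (∀ i ∈ s, Odd i) → ∀ {L : List ℤ},
      (p : ℤ) * wt p L < t.sum → X (t + s) L = 0 := by
  induction t using Multiset.induction_on with
  | empty =>
    intro _ s hs L h
    rw [zero_add]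
    refine (X_rules hs).eq_zero hp L.length L rfl ?_
    have hp0 : (0 : ℤ) < p := by exact_mod_cast hp.pos
    simp only [Multiset.sum_zero, Nat.cast_zero] at h
    by_contra hno
    push Not at hno
    have := mul_nonneg hp0.le hno
    omega
  | cons r t ih =>
    intro ht s hs L h
    rw [Multiset.cons_add, X_cons]
    refine dl_eq_zero fun L₁ a L₂ hL => ?_
    refine ih (fun i hi => ht i (Multiset.mem_cons_of_mem hi)) hs ?_
    rw [wt_shift hp.pos (by exact_mod_cast (ht r (Multiset.mem_cons_self _ _)).2), ← hL]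
    rw [Multiset.sum_cons, Nat.cast_add] at h
    linarith

/-- **Vanishing by weight.** -/
theorem X_eq_zero_of_wt {p : ℕ} (hp : Odd p) {s : Multiset ℕ} (hs : ∀ i ∈ s, Odd i) {L : List ℤ}
    (h : (p : ℤ) * wt p L < (s.filter (p ∣ ·)).sum) : X s L = 0 := by
  rw [← Multiset.filter_add_not (p ∣ ·) s]
  refine X_add_eq_zero hp _ (fun i hi => ?_) (fun i hi => ?_) (by exact_mod_cast h)
  · rw [Multiset.mem_filter] at hi
    exact ⟨hs i hi.1, hi.2⟩
  · rw [Multiset.mem_filter] at hi
    exact hs i hi.1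

end Cfsg.Agent.H886.Spin
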