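import Cfsg.Agent.H886.Spin.Skew
import Cfsg.Agent.H614.Spin.Defs

/-!
# The rules for `H614.Spin.X` (statement S4578, piece S1)
-/

set_option autoImplicit false

namespace Cfsg.Agent.H886.Spin

open Finset Cfsg.Agent.H614.Spin

theorem sg_natCast (k : ℕ) : sg k = (-1) ^ k := by
  unfold sg
  rcases Nat.even_or_odd k with h | h
  · rw [if_pos (by exact_mod_cast h), h.neg_one_pow]
  · rw [if_neg (by rw [Int.not_even_iff_odd]; exact_mod_cast h), h.neg_one_pow]

theorem sg_eq (a : ℤ) : sg a = (-1) ^ a.natAbs := by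
  rw [← sg_natCast]
  rcases Int.natAbs_eq a with h | h
  · rw [← h]
  · conv_lhs => rw [h]
    rw [sg_neg]

theorem cf_eq (k : ℕ) : cf k = fc k := by
  unfold cf fc; rw [sg_natCast]

theorem sh_eq (L : List ℤ) (u : ℕ) (g : List ℤ → ℤ) : sh L u g = Op fc u g L := by
  induction L generalizing u g with
  | nil => rfl
  | cons b L ih =>
    rw [sh_cons, Op_cons]
    refine Finset.sum_congr rfl fun x _ => ?_
    rw [ih, cf_eq]

theorem V_eq (L : List ℤ) : V L = K L := by
  obtain ⟨n, hn⟩ : ∃ n, n = L.length := ⟨_, rfl⟩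
  induction n generalizing L with
  | zero => rw [List.length_eq_zero_iff.mp hn.symm]; rfl
  | succ n ih =>
    cases L with
    | nil => rfl
    | cons a L =>
      rw [V_cons, K_cons, OpZ]
      by_cases h : 0 < a
      · rw [if_pos h, if_neg (by omega)]
      · rw [if_neg h, if_pos (by omega), sh_eq]
        have : a.natAbs = (-a).toNat := by omega
        rw [this]
        refine Op_congr fun L' hL' => ih L' ?_
        rw [hL']; simpa using hn

theorem dl_eq (r : ℕ) (g : List ℤ → ℤ) (L : List ℤ) : dl r g L = P r g L := by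
  induction L generalizing g with
  | nil => rfl
  | cons b L ih => rw [dl_cons, P_cons, ih]

theorem X_eq (s : Multiset ℕ) (L : List ℤ) : X s L = Q s L := by
  induction s using Multiset.induction_on generalizing L with
  | empty => rw [X_zero, Q_zero, V_eq]
  | cons r s ih =>
    rw [X_cons, Q_cons, dl_eq]
    exact P_congr_sum fun L' _ _ => ih L'

theorem X_eq_fun (s : Multiset ℕ) : X s = Q s := funext fun L => X_eq s L

theorem X_swap {s : Multiset ℕ} (hs : ∀ i ∈ s, Odd i) (L₁ : List ℤ) (a b : ℤ) (L₂ : List ℤ) :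
    X s (L₁ ++ a :: b :: L₂) + X s (L₁ ++ b :: a :: L₂) =
      if a + b = 0 then 2 * (-1) ^ a.natAbs * X s (L₁ ++ L₂) else 0 := by
  simp only [X_eq]
  rw [Q_skewAt hs _ _ L₁ L₂ a b rfl rfl, sg_eq]
  split_ifs
  · rfl
  · simp

theorem X_append_neg {s : Multiset ℕ} (hs : ∀ i ∈ s, Odd i) (L : List ℤ) {c : ℤ} (hc : c < 0) :
    X s (L ++ [c]) = 0 := by
  rw [X_eq]
  exact (Q_vanAt (fun i hi => (hs i hi).pos) _ L rfl).1 c hc

theorem X_append_zero {s : Multiset ℕ} (hs : ∀ i ∈ s, Odd i) (L : List ℤ) :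
    X s (L ++ [0]) = X s L := by
  rw [X_eq, X_eq]
  exact (Q_vanAt (fun i hi => (hs i hi).pos) _ L rfl).2

theorem X_eq_zero_of_sum (s : Multiset ℕ) (L : List ℤ) (h : L.sum ≠ s.sum) : X s L = 0 := by
  rw [X_eq]; exact Q_sum h

end Cfsg.Agent.H886.Spin
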