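import Cfsg.Agent.H886.Spin.Ortho
import Cfsg.Agent.H886.Spin.Bridge

/-!
# The functions `X · L`, `L` strict, span all functions on the odd types (Euler + orthogonality)
-/

set_option autoImplicit false

namespace Cfsg.Agent.H886.Spin

open Finset Cfsg.Agent.H614 Cfsg.Agent.H614.Spin

variable {n : ℕ}

/-- The decreasing list of a partition. -/
noncomputable def lst (ν : n.Partition) : List ℤ :=
  (ν.parts.sort (· ≥ ·)).map (fun k : ℕ => (k : ℤ))

theorem strict_lst {ν : n.Partition} (hν : ν.parts.Nodup) : Strict' (lst ν) := by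
  unfold lst
  refine ⟨?_, ?_⟩
  · have h1 := Multiset.pairwise_sort ν.parts (· ≥ ·)
    have h2 : (ν.parts.sort (· ≥ ·)).Nodup := by
      rw [← Multiset.coe_nodup, Multiset.sort_eq]; exact hν
    rw [List.pairwise_map]
    have h3 := h1.and h2
    refine h3.imp ?_
    rintro a b ⟨h4, h5⟩
    have : b < a := lt_of_le_of_ne h4 (Ne.symm h5)
    exact_mod_cast this
  · intro a ha
    rw [List.mem_map] at ha
    obtain ⟨k, hk, rfl⟩ := ha
    rw [Multiset.mem_sort] at hk
    exact_mod_cast ν.parts_pos hk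

theorem lst_inj {ν μ : n.Partition} (h : lst ν = lst μ) : ν = μ := by
  unfold lst at h
  have h0 : Function.Injective (fun k : ℕ => (k : ℤ)) := fun a b hab => by
    simpa using hab
  have h1 := List.map_injective_iff.mpr h0 h
  apply Nat.Partition.ext
  rw [← Multiset.sort_eq ν.parts (· ≥ ·), h1, Multiset.sort_eq]

theorem sum_lst (ν : n.Partition) : (lst ν).sum = n := by
  unfold lst
  have h1 : ((ν.parts.sort (· ≥ ·)).map (fun k : ℕ => (k : ℤ))).sum =
      (((ν.parts.sort (· ≥ ·)).sum : ℕ) : ℤ) := by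
    rw [Nat.cast_list_sum]
  rw [h1]
  congr 1
  rw [← Multiset.sum_coe, Multiset.sort_eq, ν.parts_sum]

/-- Every strict list is the list of a partition. -/
theorem exists_lst {L : List ℤ} (hL : Strict' L) (hs : L.sum = n) :
    ∃ ν : n.Partition, ν.parts.Nodup ∧ lst ν = L := by
  have hmap : (L.map Int.toNat).map (fun k : ℕ => (k : ℤ)) = L := by
    rw [List.map_map]
    conv_rhs => rw [← List.map_id L]
    refine List.map_congr_left fun a ha => ?_
    have := hL.2 a ha
    simp only [Function.comp_apply, id_eq]; omega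
  have hpw : (L.map Int.toNat).Pairwise (fun a b => b < a) := by
    rw [List.pairwise_map]
    refine hL.1.imp_of_mem fun {a b} ha hb hab => ?_
    have h1 := hL.2 a ha
    have h2 := hL.2 b hb
    omega
  have hsum : (L.map Int.toNat).sum = n := by
    have : (((L.map Int.toNat).sum : ℕ) : ℤ) = n := by
      rw [Nat.cast_list_sum, hmap, hs]
    exact_mod_cast this
  refine ⟨⟨((L.map Int.toNat : List ℕ) : Multiset ℕ), ?_, ?_⟩, ?_, ?_⟩
  · intro i hi
    rw [Multiset.mem_coe, List.mem_map] at hi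
    obtain ⟨a, ha, rfl⟩ := hi
    have := hL.2 a ha
    omega
  · rw [Multiset.sum_coe, hsum]
  · rw [Multiset.coe_nodup]
    exact hpw.imp (fun h => ne_of_gt h)
  · unfold lst
    simp only
    have : Multiset.sort ((L.map Int.toNat : List ℕ) : Multiset ℕ) (· ≥ ·) = L.map Int.toNat := by
      rw [Multiset.coe_sort]
      apply List.mergeSort_of_pairwise
      exact hpw.imp (fun h => by simpa using h.le)
    rw [this, hmap]

theorem mem_odds {ν : n.Partition} : ν ∈ Nat.Partition.odds n ↔ ∀ i ∈ ν.parts, Odd i := by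
  unfold Nat.Partition.odds Nat.Partition.restricted
  rw [Finset.mem_filter]
  simp [Nat.not_even_iff_odd]

theorem mem_distincts {ν : n.Partition} : ν ∈ Nat.Partition.distincts n ↔ ν.parts.Nodup := by
  unfold Nat.Partition.distincts
  rw [Finset.mem_filter]
  simp

theorem ortho_sum {lam mu : n.Partition} (h1 : lam.parts.Nodup) (h2 : mu.parts.Nodup) :
    ∑ ν ∈ Nat.Partition.odds n, (2 ^ Multiset.card ν.parts / (zz ν.parts : ℚ)) *
      (X ν.parts (lst lam) : ℚ) * (X ν.parts (lst mu) : ℚ) =
      if lam = mu then 2 ^ (lst lam).length else 0 := by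
  have h := W_strict (strict_lst h1) (strict_lst h2)
  unfold W at h
  rw [sum_lst, if_pos (by omega), Int.toNat_natCast] at h
  unfold Z at h
  have h3 : ∑ ν : n.Partition, wt ν.parts * QQ ν.parts (lst lam) * QQ ν.parts (lst mu) /
      (zz ν.parts : ℚ) = ∑ ν ∈ Nat.Partition.odds n, (2 ^ Multiset.card ν.parts /
      (zz ν.parts : ℚ)) * (X ν.parts (lst lam) : ℚ) * (X ν.parts (lst mu) : ℚ) := by
    rw [← Finset.sum_subset (Finset.subset_univ (Nat.Partition.odds n))]
    · refine Finset.sum_congr rfl fun ν hν => ?_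
      rw [mem_odds] at hν
      unfold wt QQ
      rw [if_pos hν, X_eq, X_eq]; ring
    · intro ν _ hν
      rw [mem_odds] at hν
      unfold wt
      rw [if_neg hν]; ring
  rw [h3] at h
  rw [h]
  by_cases he : lam = mu
  · rw [if_pos he, if_pos (by rw [he])]
  · rw [if_neg he, if_neg (fun h' => he (lst_inj h'))]

/-- The functions `X · L`, `L` strict, span all functions on the odd types. -/
theorem eq_zero_of_orth (F : Multiset ℕ → ℂ)
    (h : ∀ L : List ℤ, Strict' L → L.sum = n →
      ∑ ν ∈ Nat.Partition.odds n, F ν.parts * (X ν.parts L : ℂ) = 0)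
    {s : Multiset ℕ} (hs : s.sum = n) (hodd : ∀ i ∈ s, Odd i) : F s = 0 := by
  classical
  let A : Matrix (Nat.Partition.distincts n) (Nat.Partition.odds n) ℚ :=
    fun lam ν => (X ν.1.parts (lst lam.1) : ℚ)
  let B : Matrix (Nat.Partition.odds n) (Nat.Partition.distincts n) ℚ :=
    fun ν mu => (2 ^ Multiset.card ν.1.parts / (zz ν.1.parts : ℚ)) * (X ν.1.parts (lst mu.1) : ℚ) /
      2 ^ (lst mu.1).length
  have hAB : A * B = 1 := by
    ext lam mu
    rw [Matrix.mul_apply, Matrix.one_apply]
    have h1 := ortho_sum (mem_distincts.mp lam.2) (mem_distincts.mp mu.2)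
    have h2 : ∑ ν : Nat.Partition.odds n, A lam ν * B ν mu =
        (∑ ν ∈ Nat.Partition.odds n, (2 ^ Multiset.card ν.parts / (zz ν.parts : ℚ)) *
          (X ν.parts (lst lam.1) : ℚ) * (X ν.parts (lst mu.1) : ℚ)) / 2 ^ (lst mu.1).length := by
      rw [← Finset.sum_coe_sort (Nat.Partition.odds n), Finset.sum_div]
      refine Finset.sum_congr rfl fun ν _ => ?_
      simp only [A, B]; ring
    rw [h2, h1]
    by_cases he : lam = mu
    · subst he
      rw [if_pos rfl, if_pos rfl, div_self]
      positivity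
    · rw [if_neg he, if_neg (fun h' => he (Subtype.ext h')), zero_div]
  have hcard : Fintype.card (Nat.Partition.distincts n) = Fintype.card (Nat.Partition.odds n) := by
    rw [Fintype.card_coe, Fintype.card_coe, Nat.Partition.card_odds_eq_card_distincts]
  have hBA : B * A = 1 := (Matrix.mul_eq_one_comm_of_card_eq _ _ _ hcard).mp hAB
  -- the partition of `s`
  let ν₀ : n.Partition := ⟨s, fun {i} hi => (hodd i hi).pos, hs⟩
  have hν₀ : ν₀ ∈ Nat.Partition.odds n := mem_odds.mpr hodd
  have h3 : F s = ∑ ν : Nat.Partition.odds n, (((B * A) ⟨ν₀, hν₀⟩ ν : ℚ) : ℂ) * F ν.1.parts := by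
    rw [hBA, Finset.sum_eq_single ⟨ν₀, hν₀⟩]
    · simp [ν₀]
    · intro ν _ hν
      rw [Matrix.one_apply_ne (Ne.symm hν)]; simp
    · intro h; exact absurd (Finset.mem_univ _) h
  rw [h3]
  have h4 : ∀ ν : Nat.Partition.odds n, (((B * A) ⟨ν₀, hν₀⟩ ν : ℚ) : ℂ) * F ν.1.parts =
      ∑ lam : Nat.Partition.distincts n, ((B ⟨ν₀, hν₀⟩ lam : ℚ) : ℂ) *
        (F ν.1.parts * (X ν.1.parts (lst lam.1) : ℂ)) := by
    intro ν
    rw [Matrix.mul_apply]
    push_cast
    rw [Finset.sum_mul]
    refine Finset.sum_congr rfl fun lam _ => ?_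
    simp only [A]; push_cast; ring
  rw [Finset.sum_congr rfl fun ν _ => h4 ν, Finset.sum_comm]
  refine Finset.sum_eq_zero fun lam _ => ?_
  rw [← Finset.mul_sum]
  have h5 := h (lst lam.1) (strict_lst (mem_distincts.mp lam.2)) (sum_lst _)
  rw [← Finset.sum_coe_sort (Nat.Partition.odds n)] at h5
  rw [h5, mul_zero]

end Cfsg.Agent.H886.Spin
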