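import Cfsg.Agent.H886.Spin.Theta
import Cfsg.Agent.H886.Spin.Span
import Cfsg.Agent.H614.IndexTwo
import Cfsg.Agent.H614.Chars
import Cfsg.Agent.H686.Spin.Struct
import Cfsg.Agent.CharDeep.DegreeBound

/-!
# Classification of the faithful irreducible characters of a double cover of `A_n`
-/

set_option autoImplicit false
set_option linter.unusedSectionVars false

namespace Cfsg.Agent.H886.Spin

open Finset Cfsg Cfsg.Agent.H614 Cfsg.Agent.H614.Spin Cfsg.Agent.Characters.Core
open scoped ComplexConjugate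

/-! ### restriction to a subgroup of index two -/

theorem restrict_sum {G : Type*} [Group G] [Fintype G] (N : Subgroup G) [N.Normal] [Fintype N]
    (hN2 : N.index = 2) {ψ : G → ℂ} (hψ : IsIrrCharacter G ψ) (hv : ∀ g, g ∉ N → ψ g = 0)
    {θ : N → ℂ} (hθ : IsIrrCharacter N θ) (h : classInner (fun n : N => ψ n) θ ≠ 0)
    {t : G} (ht : t ∉ N) (x : N) : ψ x = θ x + θ (MulAut.conjNormal t x) := by
  classical
  have hres : IsCharacter N (fun n : N => ψ n) :=
    Characters.Clifford.isCharacter_restrict N (isIrr_isCharacter hψ)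
  -- the norm of the restriction is 2
  have h1' : classInner (fun n : N => ψ n) (fun n : N => ψ n) = 2 := by
    have h1 := classInner_irr_self hψ
    rw [classInner_def] at h1 ⊢
    have hG : (Nat.card G : ℂ) ≠ 0 := card_ne_zero_complex
    have hNc : (Nat.card N : ℂ) ≠ 0 := card_ne_zero_complex
    have hcard : (Nat.card G : ℂ) = Nat.card N * 2 := by
      have := N.card_mul_index
      rw [hN2] at this
      exact_mod_cast this.symm
    have h2 : ∑ g : G, ψ g * conj (ψ g) = ∑ n : N, ψ n * conj (ψ n) := by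
      rw [← Finset.sum_filter_of_ne (p := fun g => g ∈ N)]
      · rw [← Finset.sum_subtype (univ.filter fun g => g ∈ N) (p := fun g => g ∈ N) (by simp)
          (fun g => ψ g * conj (ψ g))]
      · intro g _ hg
        by_contra hgN
        apply hg; rw [hv g hgN, zero_mul]
    rw [h2, hcard] at h1
    field_simp at h1 ⊢
    linear_combination h1
  obtain ⟨S, hS, hconj, heq⟩ := Blocks.PrimeNormal.restrict_eq N hψ hθ h
  obtain ⟨e, he⟩ := classInner_isNat hres (isIrr_isCharacter hθ)
  rw [he] at heq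
  have h2 : classInner (fun n : N => ψ n) (fun n : N => ψ n) = (e : ℂ) * ((e : ℂ) * S.card) := by
    rw [heq, classInner_smul_left, classInner_smul_right, classInner_sum_left]
    congr 1
    rw [Complex.conj_natCast]
    congr 1
    have h3 : ∀ η ∈ S, classInner (η : N → ℂ) (∑ η' ∈ S, (η' : N → ℂ)) = 1 := by
      intro η hη
      rw [classInner_sum_right, Finset.sum_eq_single η]
      · exact classInner_irr_self η.2
      · intro η' _ hne
        exact classInner_irr_ne η.2 η'.2 (fun h => hne (Subtype.ext h.symm))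
      · intro h; exact absurd hη h
    rw [Finset.sum_congr rfl h3, Finset.sum_const, nsmul_eq_mul, mul_one]
  rw [h1'] at h2
  have h3 : e * (e * S.card) = 2 := by exact_mod_cast h2.symm
  have h4 : e = 1 ∧ S.card = 2 := by
    have he0 : e ≠ 0 := by rintro rfl; simp at h3
    have he2 : e < 2 := by
      by_contra h5
      have h6 : 2 * (2 * 1) ≤ e * (e * S.card) :=
        Nat.mul_le_mul (by omega) (Nat.mul_le_mul (by omega) (by omega))
      omega
    have he1 : e = 1 := by omega
    subst he1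
    exact ⟨rfl, by omega⟩
  -- the elements of `S`
  have hcl : ∀ (m y : N), θ (m * y * m⁻¹) = θ y := fun m y => isIrr_isClassFunction hθ y m
  have hθ' : IsIrrCharacter N (θ ∘ (MulAut.conjNormal t : MulAut N)) := by
    exact Characters.Clifford.isIrr_conjNormal hθ t
  have hcases : ∀ η ∈ S, (η : N → ℂ) = θ ∨ (η : N → ℂ) = θ ∘ (MulAut.conjNormal t : MulAut N) := by
    intro η hη
    obtain ⟨g, hg⟩ := hconj η hη
    by_cases hgN : g ∈ N
    · left
      rw [hg]
      funext y
      have e1 : (MulAut.conjNormal g : MulAut N) y = ⟨g, hgN⟩ * y * ⟨g, hgN⟩⁻¹ := by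
        apply Subtype.ext
        rw [MulAut.conjNormal_apply]; rfl
      rw [Function.comp_apply, e1]
      exact hcl _ _
    · right
      rw [hg]
      funext y
      have hm : t⁻¹ * g ∈ N := (Subgroup.mul_mem_iff_of_index_two hN2).mpr
        (by simp [inv_mem_iff, ht, hgN])
      have e1 : (MulAut.conjNormal g : MulAut N) y = (MulAut.conjNormal t : MulAut N)
          (⟨t⁻¹ * g, hm⟩ * y * ⟨t⁻¹ * g, hm⟩⁻¹) := by
        apply Subtype.ext
        rw [MulAut.conjNormal_apply, MulAut.conjNormal_apply]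
        simp only [Subgroup.coe_mul, Subgroup.coe_inv]
        group
      rw [Function.comp_apply, e1]
      have := isIrr_isClassFunction hθ' y ⟨t⁻¹ * g, hm⟩
      exact this
  obtain ⟨η₁, η₂, hne, hS2⟩ := Finset.card_eq_two.mp h4.2
  have h5 := congrFun heq x
  rw [h4.1, Nat.cast_one, one_smul, hS2, Finset.sum_pair hne] at h5
  rw [Pi.add_apply] at h5
  have hη₁ := hcases η₁ (by rw [hS2]; simp)
  have hη₂ := hcases η₂ (by rw [hS2]; simp)
  have hne' : (η₁ : N → ℂ) ≠ η₂ := fun h => hne (Subtype.ext h)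
  rcases hη₁ with a | a <;> rcases hη₂ with b | b
  · exact absurd (a.trans b.symm) hne'
  · rw [a, b] at h5; exact h5
  · rw [a, b] at h5; rw [h5, add_comm]; rfl
  · exact absurd (a.trans b.symm) hne'


/-! ### sums over the fibres -/

section fibre

variable {n : ℕ} {T : Type*} [Group T] [Fintype T] {P : T →* Equiv.Perm (Fin n)} {z : T}

theorem card_fibre (surj : Function.Surjective P) (z_ne : z ≠ 1)
    (ker : ∀ x, P x = 1 ↔ x = 1 ∨ x = z) (g : Equiv.Perm (Fin n)) [DecidableEq T] :
    #{x : T | P x = g} = 2 := by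
  obtain ⟨x₀, hx₀⟩ := surj g
  have : ({x : T | P x = g} : Finset T) = {x₀, z * x₀} := by
    ext x
    rw [Finset.mem_filter, Finset.mem_insert, Finset.mem_singleton]
    constructor
    · rintro ⟨_, hx⟩
      have h1 : P (x * x₀⁻¹) = 1 := by rw [map_mul, map_inv, hx, hx₀, mul_inv_cancel]
      rcases (ker _).mp h1 with h2 | h2
      · left; rwa [mul_inv_eq_one] at h2
      · right; rw [← h2]; group
    · have hz : P z = 1 := (ker z).mpr (Or.inr rfl)
      rintro (rfl | rfl)
      · exact ⟨mem_univ _, hx₀⟩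
      · exact ⟨mem_univ _, by rw [map_mul, hz, one_mul, hx₀]⟩
  rw [this, Finset.card_pair]
  intro h
  apply z_ne
  exact (mul_eq_right.mp h.symm)

theorem sum_fibre (surj : Function.Surjective P) (z_ne : z ≠ 1)
    (ker : ∀ x, P x = 1 ↔ x = 1 ∨ x = z) (F : Equiv.Perm (Fin n) → ℂ) :
    ∑ x : T, F (P x) = 2 * ∑ g, F g := by
  classical
  rw [← Finset.sum_fiberwise (s := univ) (g := fun x : T => P x), Finset.mul_sum]
  refine Finset.sum_congr rfl fun g _ => ?_
  rw [Finset.sum_congr rfl (g := fun _ => F g), Finset.sum_const, nsmul_eq_mul,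
    card_fibre surj z_ne ker g]
  · norm_num
  · intro x hx
    rw [(Finset.mem_filter.mp hx).2]

theorem card_T (surj : Function.Surjective P) (z_ne : z ≠ 1)
    (ker : ∀ x, P x = 1 ↔ x = 1 ∨ x = z) : (Nat.card T : ℂ) = 2 * n.factorial := by
  have h := sum_fibre surj z_ne ker (fun _ => 1)
  simp only [Finset.sum_const, nsmul_eq_mul, mul_one, Finset.card_univ] at h
  rw [Nat.card_eq_fintype_card, h, Fintype.card_perm, Fintype.card_fin]

theorem sign_of_odd {g : Equiv.Perm (Fin n)} (h : ∀ i ∈ ty g, Odd i) :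
    g ∈ alternatingGroup (Fin n) := by
  rw [Equiv.Perm.mem_alternatingGroup, Equiv.Perm.sign_of_cycleType']
  refine Multiset.prod_eq_one fun u hu => ?_
  rw [Multiset.mem_map] at hu
  obtain ⟨k, hk, rfl⟩ := hu
  have : Odd k := h k (by rw [ty_eq]; exact Multiset.mem_add.mpr (Or.inl hk))
  rw [this.neg_one_pow]; simp

theorem wtC (s : Multiset ℕ) : (wt s : ℂ) = if ∀ i ∈ s, Odd i then 2 ^ Multiset.card s else 0 := by
  unfold wt; split_ifs <;> simp

theorem norm_sum (surj : Function.Surjective P) (z_ne : z ≠ 1)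
    (ker : ∀ x, P x = 1 ↔ x = 1 ∨ x = z) {b : T → ℂ} {c₀ : ℕ}
    (sq : ∀ x, (∀ i ∈ ty (P x), Odd i) → b x * conj (b x) = 2 ^ (Multiset.card (ty (P x)) + c₀))
    (van : ∀ x, ¬ (∀ i ∈ ty (P x), Odd i) → b x = 0) {L : List ℤ} (hL : Strict' L)
    (hs : L.sum = n) :
    ∑ x : T, (b x * (X (ty (P x)) L : ℂ)) * conj (b x * (X (ty (P x)) L : ℂ)) =
      2 * n.factorial * 2 ^ (L.length + c₀) := by
  have h1 : ∀ x : T, (b x * (X (ty (P x)) L : ℂ)) * conj (b x * (X (ty (P x)) L : ℂ)) =
      (fun g : Equiv.Perm (Fin n) => (((2 : ℚ) ^ c₀ * (wt (ty g) * QQ (ty g) L * QQ (ty g) L) : ℚ) : ℂ))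
        (P x) := by
    intro x
    simp only
    rw [map_mul, show conj ((X (ty (P x)) L : ℤ) : ℂ) = ((X (ty (P x)) L : ℤ) : ℂ) from
      map_intCast (starRingEnd ℂ) _]
    push_cast
    rw [wtC]
    unfold QQ
    rw [← X_eq]
    by_cases ho : ∀ i ∈ ty (P x), Odd i
    · rw [if_pos ho]
      have := sq x ho
      rw [pow_add] at this
      push_cast
      linear_combination (X (ty (P x)) L : ℂ) ^ 2 * this
    · rw [if_neg ho, van x ho]; simp
  rw [Finset.sum_congr rfl fun x _ => h1 x]
  refine (sum_fibre surj z_ne ker (fun g : Equiv.Perm (Fin n) =>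
    (((2 : ℚ) ^ c₀ * (wt (ty g) * QQ (ty g) L * QQ (ty g) L) : ℚ) : ℂ))).trans ?_
  have h2 := sum_perm (α := Fin n) (fun s => (2 : ℚ) ^ c₀ * (wt s * QQ s L * QQ s L))
  rw [Z_smul, Fintype.card_fin] at h2
  have h3 : Z n (fun s => wt s * QQ s L * QQ s L) = 2 ^ L.length := by
    have h4 := W_strict hL hL
    rw [if_pos rfl] at h4
    unfold W at h4
    rw [hs, if_pos (by omega), Int.toNat_natCast] at h4
    exact h4
  rw [h3] at h2
  have h5 := congrArg (Rat.cast : ℚ → ℂ) h2
  push_cast at h5 ⊢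
  rw [h5]; ring

/-- Completeness: every faithful irreducible character is not orthogonal to some `b X_L`. -/
theorem exists_strict (ker : ∀ x, P x = 1 ↔ x = 1 ∨ x = z) {b : T → ℂ}
    (neg : ∀ x, b (z * x) = -b x) (hb1 : b 1 ≠ 0)
    (van : ∀ x, ¬ (∀ i ∈ ty (P x), Odd i) → b x = 0) (H : Subgroup T) [Fintype H]
    (hz : z ∈ H) (z_ne : z ≠ 1)
    {χ : H → ℂ} (h1 : χ 1 ≠ 0) (hneg : χ ⟨z, hz⟩ = - χ 1) :
    ∃ L : List ℤ, Strict' L ∧ L.sum = n ∧
      ∑ x : H, χ x * conj (b x * (X (ty (P x)) L : ℂ)) ≠ 0 := by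
  classical
  by_contra hno
  push Not at hno
  let F : Multiset ℕ → ℂ := fun s => ∑ x : H, if ty (P x) = s then χ x * conj (b x) else 0
  have hF : F (Multiset.replicate n 1) = 0 := by
    refine eq_zero_of_orth (n := n) F ?_ (by simp) (by
      intro i hi; rw [Multiset.eq_of_mem_replicate hi]; exact odd_one)
    intro L hL hs
    have h2 := hno L hL hs
    rw [← h2]
    simp only [F, Finset.sum_mul]
    rw [Finset.sum_comm]
    refine Finset.sum_congr rfl fun x _ => ?_
    rw [map_mul, show conj ((X (ty (P (x : T))) L : ℤ) : ℂ) = ((X (ty (P (x : T))) L : ℤ) : ℂ) from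
      map_intCast (starRingEnd ℂ) _]
    by_cases ho : ∀ i ∈ ty (P (x : T)), Odd i
    · have hsum : (ty (P (x : T))).sum = n := by rw [ty_sum, Fintype.card_fin]
      let ν : n.Partition := ⟨ty (P (x : T)), fun {i} hi => (ho i hi).pos, hsum⟩
      rw [Finset.sum_eq_single ν]
      · rw [if_pos rfl]; ring
      · intro μ _ hμ
        rw [if_neg, zero_mul]
        intro h; apply hμ; apply Nat.Partition.ext; exact h.symm
      · intro h; exact absurd ((mem_odds (ν := ν)).mpr ho) h
    · rw [van _ ho]; simp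
  have hF2 : F (Multiset.replicate n 1) = 2 * (χ 1 * conj (b 1)) := by
    have h3 : ∀ x : H, ty (P (x : T)) = Multiset.replicate n 1 ↔ (x = 1 ∨ x = ⟨z, hz⟩) := by
      intro x
      have h4 : ty (P (x : T)) = Multiset.replicate n 1 ↔ P (x : T) = 1 := by
        have := ty_one (α := Fin n)
        rw [Fintype.card_fin] at this
        rw [← this, ty_eq_iff]
        constructor
        · intro h; exact isConj_one_left.mp h
        · intro h; rw [h]
      rw [h4, ker]
      constructor
      · rintro (h | h)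
        · left; exact Subtype.ext h
        · right; exact Subtype.ext h
      · rintro (h | h)
        · left; rw [h]; rfl
        · right; rw [h]
    simp only [F]
    rw [← Finset.sum_filter]
    have h5 : (univ.filter fun x : H => ty (P (x : T)) = Multiset.replicate n 1) =
        {1, ⟨z, hz⟩} := by
      ext x
      rw [Finset.mem_filter, Finset.mem_insert, Finset.mem_singleton, h3]
      simp
    rw [h5, Finset.sum_pair, hneg]
    · have := neg 1
      rw [mul_one] at this
      simp only [Subgroup.coe_one]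
      rw [this, map_neg]; ring
    · intro h
      apply z_ne
      exact (congrArg Subtype.val h).symm
  rw [hF] at hF2
  have h6 : conj (b 1) ≠ 0 := by rwa [Ne, map_eq_zero]
  have h7 : χ 1 * conj (b 1) ≠ 0 := mul_ne_zero h1 h6
  exact h7 (by linear_combination -(1 / 2 : ℂ) * hF2)

end fibre

/-! ### the classification -/

theorem ty_conj {n : ℕ} (g h : Equiv.Perm (Fin n)) : ty (h * g * h⁻¹) = ty g := by
  rw [ty_eq_iff]; exact (isConj_iff.mpr ⟨h, rfl⟩).symm

/-- The classification, abstract form. -/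
theorem classify {n : ℕ} (hn : 2 ≤ n) {T : Type*} [Group T] [Fintype T]
    {P : T →* Equiv.Perm (Fin n)} {z : T} {b : T → ℂ} {c₀ : ℕ}
    (surj : Function.Surjective P) (z_ne : z ≠ 1) (ker : ∀ x, P x = 1 ↔ x = 1 ∨ x = z)
    (isClass : IsClassFunction T b) (neg : ∀ x, b (z * x) = -b x)
    (sq : ∀ x, (∀ i ∈ ty (P x), Odd i) → b x * conj (b x) = 2 ^ (Multiset.card (ty (P x)) + c₀))
    (van : ∀ x, ¬ (∀ i ∈ ty (P x), Odd i) → b x = 0)
    (divT : ∀ (m : ℕ) (a : Fin m → ℕ), ∑ j, a j = n → ∃ θ : T → ℂ, IsCharacter T θ ∧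
      ∀ x, b x * cnt (P x) a = 2 ^ ((#{j | a j ≠ 0} + c₀) / 2) * θ x)
    (H : Subgroup T) (hH : H = (alternatingGroup (Fin n)).comap P) [Fintype H]
    (divH : ∀ (m : ℕ) (a : Fin m → ℕ), ∑ j, a j = n → ∃ θ : H → ℂ, IsCharacter H θ ∧
      ∀ x : H, b (x : T) * cnt (P (x : T)) a = 2 ^ ((#{j | a j ≠ 0} + (1 + c₀)) / 2) * θ x)
    (hz : z ∈ H) {χ : H → ℂ} (hχ : IsIrrCharacter H χ) (hneg : χ ⟨z, hz⟩ = - χ 1) :
    ∃ L : List ℤ, Strict' L ∧ L.sum = n ∧ ∃ j k : ℕ, ∃ e : ℂ, (e = 1 ∨ e = -1) ∧
      ∀ t : T, t ∉ H → ∀ x y : H, (y : T) = t * x * t⁻¹ →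
        (2 : ℂ) ^ j * (χ x + χ y) = e * 2 ^ k * (b x * (X (ty (P x)) L : ℂ)) := by
  classical
  have hn0 : Nontrivial (Fin n) := Fin.nontrivial_iff_two_le.mpr hn
  have hindex : H.index = 2 := by
    rw [hH, Subgroup.index_comap_of_surjective _ surj, alternatingGroup.index_eq_two]
  have hnorm : H.Normal := Subgroup.normal_of_index_eq_two hindex
  have hodd : ∀ x : T, (∀ i ∈ ty (P x), Odd i) → x ∈ H := by
    intro x hx
    rw [hH, Subgroup.mem_comap]; exact sign_of_odd hx
  have h1T : ∀ i ∈ ty (P (1 : T)), Odd i := by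
    rw [map_one, ty_one]
    intro i hi; rw [Multiset.eq_of_mem_replicate hi]; exact odd_one
  have hb1 : b 1 ≠ 0 := by
    intro h
    have := sq 1 h1T
    rw [h, zero_mul] at this
    exact (pow_ne_zero _ (two_ne_zero : (2 : ℂ) ≠ 0)) this.symm
  obtain ⟨L, hL, hLs, hne⟩ := exists_strict ker neg hb1 van H hz z_ne
    (isIrr_apply_one_ne_zero hχ) hneg
  refine ⟨L, hL, hLs, ?_⟩
  have hpos : ∀ a ∈ L, 0 < a := hL.2
  have hnormT := norm_sum surj z_ne ker sq van hL hLs
  have hcardT := card_T surj z_ne ker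
  have hcardH : (Nat.card T : ℂ) = Nat.card H * 2 := by
    have := H.card_mul_index
    rw [hindex] at this
    exact_mod_cast this.symm
  have hnf : ((n.factorial : ℕ) : ℂ) ≠ 0 := by exact_mod_cast n.factorial_ne_zero
  have hcH : (Nat.card H : ℂ) = n.factorial := by
    have h := hcardT.symm.trans hcardH
    linear_combination -(1 / 2 : ℂ) * h
  -- sums over `H`
  have hsumH : ∀ F : T → ℂ, (∀ x, x ∉ H → F x = 0) → ∑ x : T, F x = ∑ x : H, F x := by
    intro F hF
    rw [← Finset.sum_filter_of_ne (p := fun g => g ∈ H)]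
    · rw [← Finset.sum_subtype (univ.filter fun g => g ∈ H) (p := fun g => g ∈ H) (by simp) F]
    · intro g _ hg
      by_contra hgN
      exact hg (hF g hgN)
  have hvan : ∀ x : T, x ∉ H → b x * (X (ty (P x)) L : ℂ) = 0 := by
    intro x hx
    rw [van x (fun h => hx (hodd x h)), zero_mul]
  have hclass : ∀ t x : T, b (t * x * t⁻¹) * (X (ty (P (t * x * t⁻¹))) L : ℂ) =
      b x * (X (ty (P x)) L : ℂ) := by
    intro t x
    rw [isClass x t, map_mul, map_mul, map_inv, ty_conj]
  have h2ne : ∀ k : ℕ, (2 : ℂ) ^ k ≠ 0 := fun k => pow_ne_zero _ two_ne_zero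
  rcases Nat.even_or_odd (L.length + c₀) with hpar | hpar
  · -- the quotient is an irreducible character of `T`
    obtain ⟨θ, hθ1, hθ2⟩ := exists_theta P b c₀ divT hpos
    obtain ⟨k, hk⟩ := hpar
    have hk2 : (L.length + c₀) / 2 = k := by omega
    rw [hk2] at hθ2
    have hθn : classInner θ θ = 1 := by
      rw [classInner_def, hcardT]
      have h3 : (2 : ℂ) ^ k * (2 : ℂ) ^ k * ∑ g : T, θ g * conj (θ g) =
          2 * n.factorial * 2 ^ (L.length + c₀) := by
        rw [← hnormT, Finset.mul_sum]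
        refine Finset.sum_congr rfl fun x _ => ?_
        rw [hθ2 x, map_mul, map_pow, Complex.conj_ofNat]; ring
      rw [hk, pow_add] at h3
      have h4 : ∑ g : T, θ g * conj (θ g) = 2 * n.factorial := by
        refine mul_left_cancel₀ (mul_ne_zero (h2ne k) (h2ne k)) ?_
        rw [h3]; ring
      rw [h4]
      exact inv_mul_cancel₀ (mul_ne_zero two_ne_zero hnf)
    have hθvan : ∀ x : T, x ∉ H → θ x = 0 := by
      intro x hx
      have := hθ2 x
      rw [hvan x hx] at this
      exact (mul_eq_zero.mp this.symm).resolve_left (h2ne k)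
    have hinner : classInner (fun x : H => θ x) χ ≠ 0 := by
      intro h0
      apply hne
      have h5 : classInner χ (fun x : H => θ x) = 0 := by
        rw [← classInner_conj_symm, h0, map_zero]
      rw [classInner_def] at h5
      have h6 := (mul_eq_zero.mp h5).resolve_left (inv_ne_zero card_ne_zero_complex)
      have h7 : ∑ x : H, χ x * conj (b x * (X (ty (P x)) L : ℂ)) =
          2 ^ k * ∑ x : H, χ x * conj (θ x) := by
        rw [Finset.mul_sum]
        refine Finset.sum_congr rfl fun x _ => ?_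
        rw [hθ2 x, map_mul, map_pow, Complex.conj_ofNat]; ring
      rw [h7, h6, mul_zero]
    rcases isIrr_of_generalized hθ1 hθn with hirr | hirr
    · refine ⟨k, 0, 1, Or.inl rfl, fun t ht x y hy => ?_⟩
      have h8 := restrict_sum H hindex hirr hθvan hχ hinner ht x
      have h9 : (MulAut.conjNormal t : MulAut H) x = y := by
        apply Subtype.ext; rw [MulAut.conjNormal_apply, hy]
      rw [h9] at h8
      rw [← h8, hθ2 x]; ring
    · refine ⟨k, 0, -1, Or.inr rfl, fun t ht x y hy => ?_⟩
      have hinner' : classInner (fun x : H => (-θ) x) χ ≠ 0 := by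
        have : (fun x : H => (-θ) x) = -(fun x : H => θ x) := rfl
        rw [this, classInner_neg_left]
        exact neg_ne_zero.mpr hinner
      have h8 := restrict_sum H hindex hirr (fun g hg => by
        rw [Pi.neg_apply, hθvan g hg, neg_zero]) hχ hinner' ht x
      have h9 : (MulAut.conjNormal t : MulAut H) x = y := by
        apply Subtype.ext; rw [MulAut.conjNormal_apply, hy]
      rw [h9] at h8
      rw [← h8, hθ2 x, Pi.neg_apply]; ring
  · -- the quotient is an irreducible character of `H`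
    obtain ⟨θ, hθ1, hθ2⟩ := exists_theta (fun x : H => P (x : T)) (fun x : H => b (x : T)) (1 + c₀)
      divH hpos
    obtain ⟨k, hk⟩ := hpar
    have hk2 : (L.length + (1 + c₀)) / 2 = k + 1 := by omega
    rw [hk2] at hθ2
    have hθn : classInner θ θ = 1 := by
      rw [classInner_def, hcH]
      have h3 : (2 : ℂ) ^ (k + 1) * (2 : ℂ) ^ (k + 1) * ∑ g : H, θ g * conj (θ g) =
          2 * n.factorial * 2 ^ (L.length + c₀) := by
        rw [← hnormT, hsumH, Finset.mul_sum]
        · refine Finset.sum_congr rfl fun x _ => ?_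
          rw [hθ2 x, map_mul, map_pow, Complex.conj_ofNat]; ring
        · intro x hx
          rw [hvan x hx, zero_mul]
      rw [hk] at h3
      have h4 : ∑ g : H, θ g * conj (θ g) = n.factorial := by
        refine mul_left_cancel₀ (mul_ne_zero (h2ne (k + 1)) (h2ne (k + 1))) ?_
        rw [h3]; ring
      rw [h4]
      exact inv_mul_cancel₀ hnf
    have hinner : classInner χ θ ≠ 0 := by
      intro h0
      apply hne
      rw [classInner_def] at h0
      have h6 := (mul_eq_zero.mp h0).resolve_left (inv_ne_zero card_ne_zero_complex)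
      have h7 : ∑ x : H, χ x * conj (b x * (X (ty (P x)) L : ℂ)) =
          2 ^ (k + 1) * ∑ x : H, χ x * conj (θ x) := by
        rw [Finset.mul_sum]
        refine Finset.sum_congr rfl fun x _ => ?_
        rw [hθ2 x, map_mul, map_pow, Complex.conj_ofNat]; ring
      rw [h7, h6, mul_zero]
    have hinv : ∀ (t : T) (x y : H), (y : T) = t * x * t⁻¹ → θ y = θ x := by
      intro t x y hy
      refine mul_left_cancel₀ (h2ne (k + 1)) ?_
      rw [← hθ2, ← hθ2, hy, hclass]
    rcases isIrr_of_generalized hθ1 hθn with hirr | hirr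
    · have h8 : χ = θ := by
        by_contra h
        exact hinner (classInner_irr_ne hχ hirr h)
      refine ⟨k + 1, 1, 1, Or.inl rfl, fun t ht x y hy => ?_⟩
      rw [h8, hinv t x y hy, hθ2 x]; ring
    · have h8 : χ = -θ := by
        by_contra h
        have := classInner_irr_ne hχ hirr h
        rw [classInner_neg_right, neg_eq_zero] at this
        exact hinner this
      refine ⟨k + 1, 1, -1, Or.inr rfl, fun t ht x y hy => ?_⟩
      rw [h8, Pi.neg_apply, Pi.neg_apply, hinv t x y hy, hθ2 x]; ring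

/-- The classification for spin data, up to a sign. -/
theorem exists_label_sign {n : ℕ} (hn : 2 ≤ n) {T : Type} [Group T] [Finite T]
    {P : T →* Equiv.Perm (Fin n)} {z : T} {b : T → ℂ} (h : H686.Spin.SpinData n P z b)
    (χ : IrrCharacter ((alternatingGroup (Fin n)).comap P : Subgroup T))
    (hχ : ∀ x : ((alternatingGroup (Fin n)).comap P : Subgroup T), (x : T) = z →
      (χ : ((alternatingGroup (Fin n)).comap P : Subgroup T) → ℂ) x ≠
        (χ : ((alternatingGroup (Fin n)).comap P : Subgroup T) → ℂ) 1) :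
    ∃ L : List ℤ, Strict L ∧ L.sum = n ∧ ∃ j k : ℕ, ∃ e : ℂ, (e = 1 ∨ e = -1) ∧
      ∀ t : T, P t ∉ alternatingGroup (Fin n) →
      ∀ x y : ((alternatingGroup (Fin n)).comap P : Subgroup T), (y : T) = t * x * t⁻¹ →
        (2 : ℂ) ^ j * ((χ : ((alternatingGroup (Fin n)).comap P : Subgroup T) → ℂ) x +
          (χ : ((alternatingGroup (Fin n)).comap P : Subgroup T) → ℂ) y) =
          e * 2 ^ k * (b x * (X (ty (P x)) L : ℂ)) := by
  classical
  have := Fintype.ofFinite T
  have : Fintype ((alternatingGroup (Fin n)).comap P : Subgroup T) := Fintype.ofFinite _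
  have hPz : P z = 1 := (h.ker z).mpr (Or.inr rfl)
  have hz : z ∈ (alternatingGroup (Fin n)).comap P := by
    rw [Subgroup.mem_comap, hPz]; exact one_mem _
  have hz2 : z * z = 1 := by
    have : P (z * z) = 1 := by rw [map_mul, hPz, mul_one]
    rcases (h.ker _).mp this with h1 | h1
    · exact h1
    · exact absurd (mul_eq_left.mp h1) h.z_ne
  set zH : ((alternatingGroup (Fin n)).comap P : Subgroup T) := ⟨z, hz⟩ with hzH
  have hzc : zH ∈ Subgroup.center ((alternatingGroup (Fin n)).comap P : Subgroup T) := by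
    rw [Subgroup.mem_center_iff]
    intro g; apply Subtype.ext; exact h.z_comm g
  have hneg : (χ : ((alternatingGroup (Fin n)).comap P : Subgroup T) → ℂ) zH =
      - (χ : ((alternatingGroup (Fin n)).comap P : Subgroup T) → ℂ) 1 := by
    obtain ⟨w, -, hw⟩ := CharDeep.DegreeBound.exists_omega χ.2 hzc
    have h1 : (χ : ((alternatingGroup (Fin n)).comap P : Subgroup T) → ℂ) 1 ≠ 0 :=
      isIrr_apply_one_ne_zero χ.2
    have h3 := hw zH
    have h4 := hw 1
    rw [one_mul] at h4
    have hzz : zH * zH = 1 := Subtype.ext hz2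
    rw [hzz, h4] at h3
    have h5 : (w - 1) * (w + 1) = 0 := by
      refine (mul_eq_zero.mp (show ((w - 1) * (w + 1)) *
        (χ : ((alternatingGroup (Fin n)).comap P : Subgroup T) → ℂ) 1 = 0 from ?_)).resolve_right h1
      linear_combination -h3
    rcases mul_eq_zero.mp h5 with h6 | h6
    · exfalso
      apply hχ zH rfl
      rw [h4, sub_eq_zero.mp h6, one_mul]
    · rw [h4, eq_neg_of_add_eq_zero_left h6]; ring
  obtain ⟨L, hL, hLs, j, k, e, he, hfin⟩ := classify hn h.surj h.z_ne h.ker h.isClass h.neg h.sq h.van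
    h.divT ((alternatingGroup (Fin n)).comap P) rfl (by
      intro m a ha
      obtain ⟨θ, h1, h2⟩ := h.divH m a ha
      refine ⟨θ, h1, fun x => ?_⟩
      rw [h2 x, add_assoc]) hz χ.2 hneg
  exact ⟨L, hL, hLs, j, k, e, he, fun t ht x y hy => hfin t (fun h' => ht h') x y hy⟩

end Cfsg.Agent.H886.Spin
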