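import Mathlib

/-!
# Schur Q-function coefficients on integer tuples: operators

`Op w m φ` is the operator "coefficient of `t^m` in the product over the entries of
`∑_k w_k (t S)^k`", `S` = lowering an entry by one.
-/

set_option autoImplicit false

namespace Cfsg.Agent.H886.Spin

open Finset

/-! ### signs -/

/-- The sign `(-1)^a` of an integer. -/
def sg (a : ℤ) : ℤ := if Even a then 1 else -1

theorem sg_add (a b : ℤ) : sg (a + b) = sg a * sg b := by
  unfold sg; by_cases ha : Even a <;> by_cases hb : Even b <;> simp [Int.even_add, ha, hb]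

theorem sg_neg (a : ℤ) : sg (-a) = sg a := by simp [sg]

theorem sg_mul_self (a : ℤ) : sg a * sg a = 1 := by
  unfold sg; by_cases ha : Even a <;> simp [ha]

theorem sg_sub (a b : ℤ) : sg (a - b) = sg a * sg b := by rw [sub_eq_add_neg, sg_add, sg_neg]

theorem sg_zero : sg 0 = 1 := by simp [sg]

theorem sg_odd {a : ℤ} (h : Odd a) : sg a = -1 := by
  unfold sg; rw [if_neg (Int.not_even_iff_odd.mpr h)]

/-- Coefficients of `(1 - t) / (1 + t)`. -/
def fc (m : ℕ) : ℤ := if m = 0 then 1 else 2 * sg m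

/-- Coefficients of `(1 + t) / (1 - t)`. -/
def cc (m : ℕ) : ℤ := if m = 0 then 1 else 2

theorem fc_eq (m : ℕ) : fc m = sg m * cc m := by
  unfold fc cc; by_cases h : m = 0
  · simp [h, sg_zero]
  · simp [h, mul_comm]

/-- Odd indicator. -/
def od (m : ℕ) : ℤ := if Odd m then 1 else 0

/-! ### sums over antidiagonals -/

theorem tri {M : Type*} [AddCommMonoid M] (n : ℕ) (f : ℕ → ℕ → ℕ → M) :
    ∑ p ∈ antidiagonal n, ∑ q ∈ antidiagonal p.2, f p.1 q.1 q.2 =
      ∑ p ∈ antidiagonal n, ∑ q ∈ antidiagonal p.1, f q.1 q.2 p.2 := by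
  rw [Finset.sum_sigma', Finset.sum_sigma']
  refine Finset.sum_bij' (i := fun x _ => ⟨(x.1.1 + x.2.1, x.2.2), (x.1.1, x.2.1)⟩)
    (j := fun x _ => ⟨(x.2.1, x.2.2 + x.1.2), (x.2.2, x.1.2)⟩) ?_ ?_ ?_ ?_ ?_
  · rintro ⟨⟨a, b⟩, ⟨c, d⟩⟩ h; simp only [mem_sigma, HasAntidiagonal.mem_antidiagonal] at h ⊢
    obtain ⟨h1, h2⟩ := h; subst h2; exact ⟨by omega, trivial⟩
  · rintro ⟨⟨a, b⟩, ⟨c, d⟩⟩ h; simp only [mem_sigma, HasAntidiagonal.mem_antidiagonal] at h ⊢
    obtain ⟨h1, h2⟩ := h; subst h2; exact ⟨by omega, trivial⟩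
  · rintro ⟨⟨a, b⟩, ⟨c, d⟩⟩ h; simp only [mem_sigma, HasAntidiagonal.mem_antidiagonal] at h ⊢
    obtain ⟨h1, h2⟩ := h; subst h2; rfl
  · rintro ⟨⟨a, b⟩, ⟨c, d⟩⟩ h; simp only [mem_sigma, HasAntidiagonal.mem_antidiagonal] at h ⊢
    obtain ⟨h1, h2⟩ := h; subst h2; rfl
  · rintro ⟨⟨a, b⟩, ⟨c, d⟩⟩ h; rfl

theorem tri2 {M : Type*} [AddCommMonoid M] (n : ℕ) (f : ℕ → ℕ → ℕ → M) :
    ∑ p ∈ antidiagonal n, ∑ q ∈ antidiagonal p.2, f p.1 q.1 q.2 =
      ∑ p ∈ antidiagonal n, ∑ q ∈ antidiagonal p.2, f q.1 p.1 q.2 := by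
  rw [tri, tri n (fun a b c => f b a c)]
  refine Finset.sum_congr rfl fun p _ => ?_
  exact (Finset.Nat.sum_antidiagonal_swap (n := p.1) (f := fun q => f q.1 q.2 p.2)).symm

theorem quad {M : Type*} [AddCommMonoid M] (n : ℕ) (f : ℕ → ℕ → ℕ → ℕ → M) :
    ∑ p ∈ antidiagonal n, ∑ q ∈ antidiagonal p.1, ∑ r ∈ antidiagonal p.2, f q.1 q.2 r.1 r.2 =
      ∑ p ∈ antidiagonal n, ∑ q ∈ antidiagonal p.1, ∑ r ∈ antidiagonal p.2,
        f q.1 r.1 q.2 r.2 := by
  have e : ∀ g : ℕ → ℕ → ℕ → ℕ → M,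
      ∑ p ∈ antidiagonal n, ∑ q ∈ antidiagonal p.1, ∑ r ∈ antidiagonal p.2, g q.1 q.2 r.1 r.2 =
        ∑ x ∈ (antidiagonal n).sigma (fun p => antidiagonal p.1 ×ˢ antidiagonal p.2),
          g x.2.1.1 x.2.1.2 x.2.2.1 x.2.2.2 := by
    intro g
    rw [Finset.sum_sigma]
    refine Finset.sum_congr rfl fun p _ => ?_
    rw [Finset.sum_product]
  rw [e, e (fun a b c d => f a c b d)]
  refine Finset.sum_bij'
    (i := fun x _ => ⟨(x.2.1.1 + x.2.2.1, x.2.1.2 + x.2.2.2),
      ((x.2.1.1, x.2.2.1), (x.2.1.2, x.2.2.2))⟩)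
    (j := fun x _ => ⟨(x.2.1.1 + x.2.2.1, x.2.1.2 + x.2.2.2),
      ((x.2.1.1, x.2.2.1), (x.2.1.2, x.2.2.2))⟩) ?_ ?_ ?_ ?_ ?_
  · rintro ⟨⟨a, b⟩, ⟨c, d⟩, ⟨c', d'⟩⟩ h
    simp only [mem_sigma, mem_product, HasAntidiagonal.mem_antidiagonal] at h ⊢
    refine ⟨by omega, trivial, trivial⟩
  · rintro ⟨⟨a, b⟩, ⟨c, d⟩, ⟨c', d'⟩⟩ h
    simp only [mem_sigma, mem_product, HasAntidiagonal.mem_antidiagonal] at h ⊢
    refine ⟨by omega, trivial, trivial⟩
  · rintro ⟨⟨a, b⟩, ⟨c, d⟩, ⟨c', d'⟩⟩ h
    simp only [mem_sigma, mem_product, HasAntidiagonal.mem_antidiagonal] at h ⊢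
    obtain ⟨h1, h2, h3⟩ := h; subst h2; subst h3; rfl
  · rintro ⟨⟨a, b⟩, ⟨c, d⟩, ⟨c', d'⟩⟩ h
    simp only [mem_sigma, mem_product, HasAntidiagonal.mem_antidiagonal] at h ⊢
    obtain ⟨h1, h2, h3⟩ := h; subst h2; subst h3; rfl
  · rintro ⟨⟨a, b⟩, ⟨c, d⟩, ⟨c', d'⟩⟩ h; rfl

/-- `m c_m = 2 ∑_{r odd} c_{m - r}`. -/
theorem cc_log (m : ℕ) : (m : ℤ) * cc m = ∑ p ∈ antidiagonal m, 2 * od p.1 * cc p.2 := by
  induction m with
  | zero => simp [cc, od]
  | succ m ih =>
    rw [Finset.Nat.sum_antidiagonal_succ']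
    have h2 : ∑ p ∈ antidiagonal m, 2 * od p.1 * cc (p.2 + 1) =
        ∑ p ∈ antidiagonal m, 2 * od p.1 * cc p.2 + 2 * od m := by
      have : ∀ p ∈ antidiagonal m, 2 * od p.1 * cc (p.2 + 1) =
          2 * od p.1 * cc p.2 + (if p = (m, 0) then 2 * od m else 0) := by
        rintro ⟨a, b⟩ h
        rw [HasAntidiagonal.mem_antidiagonal] at h
        simp only at h
        by_cases hb : b = 0
        · subst hb
          have : a = m := by omega
          subst this
          simp [cc]; ring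
        · simp [cc, hb]
      rw [Finset.sum_congr rfl this, Finset.sum_add_distrib, Finset.sum_ite_eq']
      simp
    simp only
    rw [h2, ← ih]
    unfold cc od
    rcases Nat.even_or_odd m with h | h
    · have h' : Odd (m + 1) := h.add_one
      have h'' : ¬ Odd m := Nat.not_odd_iff_even.mpr h
      simp only [h', h'', if_true, if_false, Nat.succ_ne_zero]
      by_cases hm : m = 0
      · subst hm; simp
      · simp [hm]; ring
    · have h' : ¬ Odd (m + 1) := Nat.not_odd_iff_even.mpr h.add_one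
      have hm : m ≠ 0 := by rintro rfl; simp at h
      simp only [h', h, if_true, if_false, Nat.succ_ne_zero, hm]
      push_cast; ring

/-- `f * c = 1`. -/
theorem fc_mul_cc (m : ℕ) : ∑ p ∈ antidiagonal m, fc p.1 * cc p.2 = if m = 0 then 1 else 0 := by
  induction m with
  | zero => simp [fc, cc]
  | succ m ih =>
    rw [Finset.Nat.sum_antidiagonal_succ']
    have h2 : ∑ p ∈ antidiagonal m, fc p.1 * cc (p.2 + 1) =
        ∑ p ∈ antidiagonal m, fc p.1 * cc p.2 + fc m := by
      have : ∀ p ∈ antidiagonal m, fc p.1 * cc (p.2 + 1) =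
          fc p.1 * cc p.2 + (if p = (m, 0) then fc m else 0) := by
        rintro ⟨a, b⟩ h
        rw [HasAntidiagonal.mem_antidiagonal] at h
        simp only at h
        by_cases hb : b = 0
        · subst hb
          have : a = m := by omega
          subst this
          simp [cc]; ring
        · simp [cc, hb]
      rw [Finset.sum_congr rfl this, Finset.sum_add_distrib, Finset.sum_ite_eq']
      simp
    simp only
    rw [h2, ih]
    unfold fc cc
    by_cases hm : m = 0
    · subst hm; simp [sg]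
    · simp only [hm, if_false, if_true, Nat.succ_ne_zero]
      have : sg ((m + 1 : ℕ) : ℤ) = - sg m := by
        push_cast
        rw [sg_add]; simp [sg]
      rw [this]; ring

/-! ### the operators -/

variable {R : Type*} [CommRing R]

/-- The coefficient of `t^m` of the product over the entries of `∑_k w_k (t S)^k`. -/
def Op (w : ℕ → R) : ℕ → (List ℤ → R) → List ℤ → R
  | m, φ, [] => if m = 0 then φ [] else 0
  | m, φ, b :: L => ∑ p ∈ antidiagonal m, w p.1 * Op w p.2 (fun L' => φ ((b - p.1) :: L')) L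

theorem Op_nil (w : ℕ → R) (m : ℕ) (φ : List ℤ → R) :
    Op w m φ [] = if m = 0 then φ [] else 0 := rfl

theorem Op_cons (w : ℕ → R) (m : ℕ) (φ : List ℤ → R) (b : ℤ) (L : List ℤ) :
    Op w m φ (b :: L) =
      ∑ p ∈ antidiagonal m, w p.1 * Op w p.2 (fun L' => φ ((b - p.1) :: L')) L := rfl

theorem Op_congr {w : ℕ → R} {L : List ℤ} : ∀ {m : ℕ} {φ ψ : List ℤ → R},
    (∀ L' : List ℤ, L'.length = L.length → φ L' = ψ L') → Op w m φ L = Op w m ψ L := by
  induction L with
  | nil => intro m φ ψ h; simp only [Op_nil, h [] rfl]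
  | cons b L ih =>
    intro m φ ψ h
    simp only [Op_cons]
    refine Finset.sum_congr rfl fun p _ => ?_
    rw [ih (fun L' hL' => h _ (by simp [hL']))]

/-- Shifts of the entries: the sum is lowered by `m`. -/
theorem Op_congr_sum {w : ℕ → R} {L : List ℤ} : ∀ {m : ℕ} {φ ψ : List ℤ → R},
    (∀ L' : List ℤ, L'.length = L.length → L'.sum = L.sum - m → φ L' = ψ L') →
      Op w m φ L = Op w m ψ L := by
  induction L with
  | nil =>
    intro m φ ψ h
    simp only [Op_nil]
    split_ifs with hm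
    · exact h [] rfl (by simp [hm])
    · rfl
  | cons b L ih =>
    intro m φ ψ h
    simp only [Op_cons]
    refine Finset.sum_congr rfl fun p hp => ?_
    rw [HasAntidiagonal.mem_antidiagonal] at hp
    rw [ih (fun L' hL' hs => h _ (by simp [hL']) ?_)]
    rw [List.sum_cons, List.sum_cons, hs, ← hp]; push_cast; ring

theorem Op_zero_fun (w : ℕ → R) (m : ℕ) (L : List ℤ) : Op w m (fun _ => (0 : R)) L = 0 := by
  induction L generalizing m with
  | nil => simp [Op_nil]
  | cons b L ih => simp [Op_cons, ih]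

theorem Op_add (w : ℕ → R) (m : ℕ) (φ ψ : List ℤ → R) (L : List ℤ) :
    Op w m (fun L => φ L + ψ L) L = Op w m φ L + Op w m ψ L := by
  induction L generalizing m φ ψ with
  | nil => simp only [Op_nil]; split_ifs <;> simp
  | cons b L ih =>
    simp only [Op_cons]
    rw [← Finset.sum_add_distrib]
    refine Finset.sum_congr rfl fun p _ => ?_
    rw [ih]; ring

theorem Op_smul (w : ℕ → R) (m : ℕ) (c : R) (φ : List ℤ → R) (L : List ℤ) :
    Op w m (fun L => c * φ L) L = c * Op w m φ L := by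
  induction L generalizing m φ with
  | nil => simp only [Op_nil]; split_ifs <;> simp
  | cons b L ih =>
    simp only [Op_cons]
    rw [Finset.mul_sum]
    refine Finset.sum_congr rfl fun p _ => ?_
    rw [ih]; ring

theorem Op_sum {ι : Type*} (w : ℕ → R) (m : ℕ) (s : Finset ι) (φ : ι → List ℤ → R) (L : List ℤ) :
    Op w m (fun L => ∑ i ∈ s, φ i L) L = ∑ i ∈ s, Op w m (φ i) L := by
  classical
  induction s using Finset.induction_on with
  | empty => simp [Op_zero_fun]
  | insert a s ha ih =>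
    simp only [Finset.sum_insert ha]
    rw [Op_add, ih]

theorem Op_sum_mul {ι : Type*} (w : ℕ → R) (m : ℕ) (s : Finset ι) (c : ι → R)
    (φ : ι → List ℤ → R) (L : List ℤ) :
    Op w m (fun L => ∑ i ∈ s, c i * φ i L) L = ∑ i ∈ s, c i * Op w m (φ i) L := by
  rw [Op_sum]
  exact Finset.sum_congr rfl fun i _ => Op_smul _ _ _ _ _

theorem Op_comm (v w : ℕ → R) (m n : ℕ) (φ : List ℤ → R) (L : List ℤ) :
    Op v m (Op w n φ) L = Op w n (Op v m φ) L := by
  induction L generalizing m n φ with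
  | nil => simp only [Op_nil]; split_ifs <;> simp
  | cons b L ih =>
    rw [Op_cons, Op_cons]
    simp only [Op_cons, Op_sum_mul, Finset.mul_sum]
    rw [Finset.sum_comm]
    refine Finset.sum_congr rfl fun q _ => Finset.sum_congr rfl fun p _ => ?_
    rw [ih]
    have : (fun L' => φ ((b - ↑p.1 - ↑q.1) :: L')) = fun L' => φ ((b - ↑q.1 - ↑p.1) :: L') := by
      funext L'; rw [sub_right_comm]
    rw [this]; ring

/-- Convolution of weights. -/
def conv (v w : ℕ → R) (s : ℕ) : R := ∑ p ∈ antidiagonal s, v p.1 * w p.2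

theorem Op_conv (v w : ℕ → R) (N : ℕ) (φ : List ℤ → R) (L : List ℤ) :
    ∑ p ∈ antidiagonal N, Op v p.1 (Op w p.2 φ) L = Op (conv v w) N φ L := by
  induction L generalizing N φ with
  | nil =>
    simp only [Op_nil]
    by_cases hN : N = 0
    · subst hN; simp
    · rw [if_neg hN]
      refine Finset.sum_eq_zero fun p hp => ?_
      rw [HasAntidiagonal.mem_antidiagonal] at hp
      by_cases h1 : p.1 = 0
      · rw [if_pos h1, if_neg (by omega)]
      · rw [if_neg h1]
  | cons b L ih =>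
    simp only [Op_cons, Op_sum_mul, Finset.mul_sum, conv, Finset.sum_mul]
    have h1 := quad N (fun a b' c d => v a * (w c * Op v b' (Op w d
      (fun L' => φ ((b - ↑a - ↑c) :: L'))) L))
    rw [h1]
    refine Finset.sum_congr rfl fun p hp => Finset.sum_congr rfl fun q hq => ?_
    rw [HasAntidiagonal.mem_antidiagonal] at hq
    rw [← hq]
    have h2 : (fun L' => φ ((b - ((q.1 + q.2 : ℕ) : ℤ)) :: L')) =
        fun L' => φ ((b - ↑q.1 - ↑q.2) :: L') := by
      funext L'; push_cast; rw [sub_sub]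
    rw [h2, ← ih, Finset.mul_sum]
    refine Finset.sum_congr rfl fun r _ => ?_
    ring

theorem Op_delta {w : ℕ → R} (hw : ∀ m, w m = if m = 0 then 1 else 0) (m : ℕ)
    (φ : List ℤ → R) (L : List ℤ) : Op w m φ L = if m = 0 then φ L else 0 := by
  induction L generalizing m φ with
  | nil => rfl
  | cons b L ih =>
    rw [Op_cons, Finset.sum_eq_single (0, m)]
    · rw [ih, hw]; simp
    · rintro ⟨a, c⟩ h1 h2
      rw [HasAntidiagonal.mem_antidiagonal] at h1
      have : a ≠ 0 := by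
        rintro rfl; apply h2; simp at h1; simp [h1]
      rw [hw, if_neg this, zero_mul]
    · intro h; exfalso; apply h; simp

theorem Op_fc_cc (N : ℕ) (φ : List ℤ → ℤ) (L : List ℤ) :
    ∑ p ∈ antidiagonal N, Op fc p.1 (Op cc p.2 φ) L = if N = 0 then φ L else 0 := by
  rw [Op_conv, Op_delta]
  intro m; exact fc_mul_cc m

/-- Twisting the weights by a multiplicative function. -/
theorem Op_twist {v w e : ℕ → R} (h0 : e 0 = 1) (he : ∀ a b, e (a + b) = e a * e b)
    (hv : ∀ m, v m = e m * w m) (m : ℕ) (φ : List ℤ → R) (L : List ℤ) :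
    Op v m φ L = e m * Op w m φ L := by
  induction L generalizing m φ with
  | nil =>
    simp only [Op_nil]
    split_ifs with h
    · simp [h, h0]
    · simp
  | cons b L ih =>
    simp only [Op_cons, Finset.mul_sum]
    refine Finset.sum_congr rfl fun p hp => ?_
    rw [HasAntidiagonal.mem_antidiagonal] at hp
    rw [ih, hv, ← hp, he]; ring

/-- `Op fc m = (-1)^m Op cc m`. -/
theorem Op_fc_eq (m : ℕ) (φ : List ℤ → ℤ) (L : List ℤ) :
    Op fc m φ L = sg m * Op cc m φ L :=
  Op_twist (e := fun k => sg k) sg_zero (fun a b => by push_cast; exact sg_add _ _) fc_eq m φ L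

/-! ### the operators `P r` -/

/-- The sum over the entries of the shifts by `-r`. -/
def P (r : ℕ) : (List ℤ → R) → List ℤ → R
  | _, [] => 0
  | φ, b :: L => φ ((b - r) :: L) + P r (fun L' => φ (b :: L')) L

theorem P_nil (r : ℕ) (φ : List ℤ → R) : P r φ [] = 0 := rfl

theorem P_cons (r : ℕ) (φ : List ℤ → R) (b : ℤ) (L : List ℤ) :
    P r φ (b :: L) = φ ((b - r) :: L) + P r (fun L' => φ (b :: L')) L := rfl

theorem P_congr_sum {r : ℕ} {L : List ℤ} : ∀ {φ ψ : List ℤ → R},
    (∀ L' : List ℤ, L'.length = L.length → L'.sum = L.sum - r → φ L' = ψ L') →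
      P r φ L = P r ψ L := by
  induction L with
  | nil => intro φ ψ _; rfl
  | cons b L ih =>
    intro φ ψ h
    rw [P_cons, P_cons, h _ (by simp) (by simp; ring),
      ih (fun L' hL' hs => h _ (by simp [hL']) (by rw [List.sum_cons, List.sum_cons, hs]; ring))]

theorem P_zero_fun (r : ℕ) (L : List ℤ) : P r (fun _ => (0 : R)) L = 0 := by
  induction L with
  | nil => rfl
  | cons b L ih => simp [P_cons, ih]

theorem P_add (r : ℕ) (φ ψ : List ℤ → R) (L : List ℤ) :
    P r (fun L => φ L + ψ L) L = P r φ L + P r ψ L := by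
  induction L generalizing φ ψ with
  | nil => simp [P_nil]
  | cons b L ih => rw [P_cons, P_cons, P_cons, ih]; ring

theorem P_smul (r : ℕ) (c : R) (φ : List ℤ → R) (L : List ℤ) :
    P r (fun L => c * φ L) L = c * P r φ L := by
  induction L generalizing φ with
  | nil => simp [P_nil]
  | cons b L ih => rw [P_cons, P_cons, ih]; ring

theorem P_sum {ι : Type*} (r : ℕ) (s : Finset ι) (φ : ι → List ℤ → R) (L : List ℤ) :
    P r (fun L => ∑ i ∈ s, φ i L) L = ∑ i ∈ s, P r (φ i) L := by
  classical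
  induction s using Finset.induction_on with
  | empty => simp [P_zero_fun]
  | insert a s ha ih =>
    simp only [Finset.sum_insert ha]
    rw [P_add, ih]

theorem P_sum_mul {ι : Type*} (r : ℕ) (s : Finset ι) (c : ι → R)
    (φ : ι → List ℤ → R) (L : List ℤ) :
    P r (fun L => ∑ i ∈ s, c i * φ i L) L = ∑ i ∈ s, c i * P r (φ i) L := by
  rw [P_sum]
  exact Finset.sum_congr rfl fun i _ => P_smul _ _ _ _

theorem P_comm (r s : ℕ) (φ : List ℤ → R) (L : List ℤ) :
    P r (P s φ) L = P s (P r φ) L := by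
  induction L generalizing φ with
  | nil => rfl
  | cons b L ih =>
    rw [P_cons, P_cons]
    simp only [P_cons]
    rw [P_add, P_add, ih]
    rw [sub_right_comm]; ring

theorem P_Op_comm (r : ℕ) (w : ℕ → R) (m : ℕ) (φ : List ℤ → R) (L : List ℤ) :
    P r (Op w m φ) L = Op w m (P r φ) L := by
  induction L generalizing m φ with
  | nil => simp [P_nil, Op_nil]
  | cons b L ih =>
    rw [P_cons, Op_cons, Op_cons]
    simp only [Op_cons, P_cons, P_sum_mul, Op_add, mul_add, Finset.sum_add_distrib]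
    congr 1
    · refine Finset.sum_congr rfl fun p _ => ?_
      simp only [sub_right_comm]
    · refine Finset.sum_congr rfl fun p _ => ?_
      rw [ih]

/-- Logarithmic derivative. -/
theorem Op_log {w o : ℕ → R}
    (hw : ∀ m : ℕ, (m : R) * w m = ∑ p ∈ antidiagonal m, o p.1 * w p.2)
    (m : ℕ) (φ : List ℤ → R) (L : List ℤ) :
    (m : R) * Op w m φ L = ∑ p ∈ antidiagonal m, o p.1 * Op w p.2 (P p.1 φ) L := by
  induction L generalizing m φ with
  | nil =>
    simp only [Op_nil, P_nil]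
    simp only [ite_self, mul_zero, Finset.sum_const_zero]
    split_ifs with h
    · simp [h]
    · simp
  | cons b L ih =>
    have h1 : (m : R) * Op w m φ (b :: L) =
        ∑ p ∈ antidiagonal m, ((p.1 : R) * w p.1) * Op w p.2 (fun L' => φ ((b - p.1) :: L')) L +
        ∑ p ∈ antidiagonal m, w p.1 *
          ((p.2 : R) * Op w p.2 (fun L' => φ ((b - p.1) :: L')) L) := by
      rw [Op_cons, Finset.mul_sum, ← Finset.sum_add_distrib]
      refine Finset.sum_congr rfl fun p hp => ?_
      rw [HasAntidiagonal.mem_antidiagonal] at hp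
      rw [← hp]; push_cast; ring
    rw [h1]
    simp only [hw, ih, Finset.sum_mul, Finset.mul_sum, Op_cons, P_cons, Op_add, mul_add,
      Finset.sum_add_distrib]
    congr 1
    · have h2 := tri m (fun a b' c => o a * (w b' * Op w c
        (fun L' => φ ((b - ↑b' - ↑a) :: L')) L))
      rw [h2]
      refine Finset.sum_congr rfl fun p hp => Finset.sum_congr rfl fun q hq => ?_
      rw [HasAntidiagonal.mem_antidiagonal] at hq
      have : (fun L' => φ ((b - ↑p.1) :: L')) = fun L' => φ ((b - ↑q.2 - ↑q.1) :: L') := by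
        funext L'; rw [← hq]; push_cast; congr 2; ring
      rw [this]; ring
    · have h2 := tri2 m (fun a b' c => w a * (o b' * Op w c (P b'
        (fun L' => φ ((b - ↑a) :: L'))) L))
      rw [h2]
      refine Finset.sum_congr rfl fun p hp => Finset.sum_congr rfl fun q hq => ?_
      ring

theorem Op_cc_log (m : ℕ) (φ : List ℤ → ℤ) (L : List ℤ) :
    (m : ℤ) * Op cc m φ L = ∑ p ∈ antidiagonal m, 2 * od p.1 * Op cc p.2 (P p.1 φ) L :=
  Op_log (o := fun k => 2 * od k) cc_log m φ L

/-! ### casts -/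

theorem Op_cast (w : ℕ → ℤ) (m : ℕ) (φ : List ℤ → ℤ) (L : List ℤ) :
    ((Op w m φ L : ℤ) : R) = Op (fun k => (w k : R)) m (fun L => (φ L : R)) L := by
  induction L generalizing m φ with
  | nil => simp only [Op_nil]; split_ifs <;> simp
  | cons b L ih =>
    simp only [Op_cons]
    push_cast
    refine Finset.sum_congr rfl fun p _ => ?_
    rw [ih]

theorem P_cast (r : ℕ) (φ : List ℤ → ℤ) (L : List ℤ) :
    ((P r φ L : ℤ) : R) = P r (fun L => (φ L : R)) L := by
  induction L generalizing φ with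
  | nil => simp only [P_nil]; simp
  | cons b L ih =>
    simp only [P_cons]
    push_cast
    rw [ih]

end Cfsg.Agent.H886.Spin
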