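import Cfsg.Agent.H886.Spin.Bridge
import Cfsg.Agent.H614.Step

/-!
# Expansion of `X` in the counting functions, divisibility by powers of 2
-/

set_option autoImplicit false
set_option linter.unusedSectionVars false

namespace Cfsg.Agent.H886.Spin

open Finset Cfsg.Agent.H614 Cfsg.Agent.H614.Spin

/-! ### powers of 2 -/

theorem Op_dvd (L : List ℤ) : ∀ (c : ℕ) (m : ℕ) (φ : List ℤ → ℤ),
    (∀ L' : List ℤ, L'.length = L.length → (2 : ℤ) ^ (c + L'.countP (fun x => 0 < x)) ∣ φ L') →
      (2 : ℤ) ^ (c + L.countP (fun x => 0 < x)) ∣ Op fc m φ L := by
  induction L with
  | nil =>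
    intro c m φ h
    rw [Op_nil]
    split_ifs
    · exact h [] rfl
    · exact dvd_zero _
  | cons b L ih =>
    intro c m φ h
    rw [Op_cons]
    refine Finset.dvd_sum fun p _ => ?_
    by_cases hb : 0 < b
    · have e1 : (b :: L).countP (fun x => 0 < x) = L.countP (fun x => 0 < x) + 1 := by
        rw [List.countP_cons_of_pos]; simpa using hb
      rw [e1]
      by_cases hb' : 0 < b - p.1
      · have := ih (c + 1) p.2 (fun L' => φ ((b - p.1) :: L')) (by
          intro L' hL'
          have h1 := h ((b - p.1) :: L') (by simp [hL'])
          rw [List.countP_cons_of_pos (by simpa using hb')] at h1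
          rwa [show c + (L'.countP (fun x => 0 < x) + 1) =
            c + 1 + L'.countP (fun x => 0 < x) by ring] at h1)
        rw [show c + (L.countP (fun x => 0 < x) + 1) =
            c + 1 + L.countP (fun x => 0 < x) by ring]
        exact this.mul_left _
      · have hp : p.1 ≠ 0 := by
          intro h0; rw [h0] at hb'; simp at hb'; omega
        have := ih c p.2 (fun L' => φ ((b - p.1) :: L')) (by
          intro L' hL'
          have h1 := h ((b - p.1) :: L') (by simp [hL'])
          rwa [List.countP_cons_of_neg (by simpa using hb')] at h1)
        rw [show c + (L.countP (fun x => 0 < x) + 1) =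
            1 + (c + L.countP (fun x => 0 < x)) by ring, pow_add, pow_one]
        refine mul_dvd_mul ?_ this
        unfold fc
        rw [if_neg hp]
        exact dvd_mul_right _ _
    · rw [List.countP_cons_of_neg (by simpa using hb)]
      have hb' : ¬ 0 < b - p.1 := by omega
      have := ih c p.2 (fun L' => φ ((b - p.1) :: L')) (by
        intro L' hL'
        have h1 := h ((b - p.1) :: L') (by simp [hL'])
        rwa [List.countP_cons_of_neg (by simpa using hb')] at h1)
      exact this.mul_left _

theorem two_pow_dvd_K (n : ℕ) : ∀ L : List ℤ, L.length = n →
    (2 : ℤ) ^ (L.countP (fun x => 0 < x)) ∣ K L := by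
  induction n with
  | zero => intro L hL; rw [List.length_eq_zero_iff.mp hL]; simp
  | succ n ih =>
    intro L hL
    cases L with
    | nil => simp at hL
    | cons a L =>
      by_cases ha : 0 < a
      · rw [K_head_pos ha]; exact dvd_zero _
      · rw [List.countP_cons_of_neg (by simpa using ha), K_cons, OpZ]
        split_ifs
        · have := Op_dvd L 0 (-a).toNat K (by
            intro L' hL'
            rw [zero_add]
            exact ih L' (by rw [hL']; simpa using hL))
          rwa [zero_add] at this
        · exact dvd_zero _

theorem two_pow_dvd_V (L : List ℤ) : (2 : ℤ) ^ (L.countP (fun x => 0 < x)) ∣ V L := by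
  rw [V_eq]; exact two_pow_dvd_K _ L rfl

/-! ### expansion -/

theorem P_ofFn {m : ℕ} (r : ℕ) (g : List ℤ → ℤ) (β : Fin m → ℤ) :
    P r g (List.ofFn β) = ∑ j, g (List.ofFn (Function.update β j (β j - r))) := by
  induction m generalizing g with
  | zero => simp [P_nil]
  | succ m ih =>
    rw [List.ofFn_succ, P_cons, ih, Fin.sum_univ_succ]
    congr 1
    · rw [List.ofFn_succ]
      congr 2
    · refine Finset.sum_congr rfl fun j _ => ?_
      rw [List.ofFn_succ]
      congr 2
      · congr 1
        funext i
        by_cases h : i = j
        · subst h; simp
        · rw [Function.update_of_ne h, Function.update_of_ne (fun h' => h (Fin.succ_injective _ h'))]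

theorem X_ofFn {m : ℕ} (k : ℕ) : ∀ {α : Type} [Fintype α] [DecidableEq α],
    Fintype.card α = k → ∀ (g : Equiv.Perm α) (β : Fin m → ℤ),
    X (ty g) (List.ofFn β) = ∑ a ∈ Finset.piAntidiag (univ : Finset (Fin m)) k,
      V (List.ofFn (fun j => β j - a j)) * cnt g a := by
  induction k using Nat.strong_induction_on with
  | _ k ih =>
    intro α _ _ hα g β
    rcases Nat.eq_zero_or_pos k with hk | hk
    · subst hk
      have hE : IsEmpty α := Fintype.card_eq_zero_iff.mp hα
      have h1 : ty g = 0 := by
        rw [Multiset.eq_zero_iff_forall_notMem]
        intro a ha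
        have h2 := ty_pos g a ha
        have h3 := Multiset.le_sum_of_mem ha
        rw [ty_sum, hα] at h3
        omega
      rw [h1, X_zero, Finset.piAntidiag_zero, Finset.sum_singleton]
      have h2 : cnt g (0 : Fin m → ℕ) = 1 := by
        unfold cnt
        rw [Finset.card_eq_one]
        refine ⟨fun x => (hE.false x).elim, ?_⟩
        ext f
        rw [mem_invSet, Finset.mem_singleton]
        constructor
        · intro _; funext x; exact (hE.false x).elim
        · intro _
          refine ⟨by funext x; exact (hE.false x).elim, fun j => ?_⟩
          show _ = 0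
          rw [Finset.card_eq_zero, Finset.filter_eq_empty_iff]
          intro x; exact (hE.false x).elim
      rw [h2]; simp
    · obtain ⟨x⟩ : Nonempty α := Fintype.card_pos_iff.mp (by omega)
      have hr := csz_pos g x
      have hcard := card_rest g x
      have hs := ty_step g x
      have hrk : csz g x ≤ k := by omega
      have IH := ih (k - csz g x) (by omega) (α := {y // ¬ g.SameCycle x y}) (by omega) (rest g x)
      rw [hs, X_eq, Q_cons, ← X_eq_fun, P_ofFn]
      rw [Finset.sum_congr rfl fun j _ => IH _]
      simp only [cnt_step g x]
      push_cast
      simp only [Finset.mul_sum]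
      conv_rhs => rw [Finset.sum_comm]
      refine Finset.sum_congr rfl fun j _ => ?_
      -- reindex
      have e1 : ∀ a ∈ Finset.piAntidiag (univ : Finset (Fin m)) k,
          V (List.ofFn (fun i => β i - (a i : ℤ))) *
            (if csz g x ≤ a j then (cnt (rest g x) (dn a j (csz g x)) : ℤ) else 0) =
          if csz g x ≤ a j then V (List.ofFn (fun i => β i - (a i : ℤ))) *
            (cnt (rest g x) (dn a j (csz g x)) : ℤ) else 0 := by
        intro a _; split_ifs <;> simp
      rw [Finset.sum_congr rfl e1, ← Finset.sum_filter]
      refine Finset.sum_bij' (i := fun a _ => up a j (csz g x)) (j := fun a _ => dn a j (csz g x))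
        ?_ ?_ ?_ ?_ ?_
      · intro a ha
        rw [Finset.mem_piAntidiag] at ha
        have ha1 : ∑ i, a i = k - csz g x := ha.1
        rw [Finset.mem_filter, Finset.mem_piAntidiag]
        refine ⟨⟨?_, fun _ _ => mem_univ _⟩, ?_⟩
        · show ∑ i, up a j (csz g x) i = k
          have h1 : ∑ i, up a j (csz g x) i = ∑ i, a i + csz g x := by
            unfold up
            rw [← Finset.add_sum_erase _ _ (mem_univ j), ← Finset.add_sum_erase _ a (mem_univ j),
              Function.update_self]
            rw [Finset.sum_congr rfl (g := a)]
            · ring
            · intro i hi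
              rw [Function.update_of_ne (Finset.ne_of_mem_erase hi)]
          rw [h1]; omega
        · simp [up]
      · intro a ha
        rw [Finset.mem_filter, Finset.mem_piAntidiag] at ha
        have ha1 : ∑ i, a i = k := ha.1.1
        have ha2 := ha.2
        rw [Finset.mem_piAntidiag]
        refine ⟨?_, fun _ _ => mem_univ _⟩
        show ∑ i, dn a j (csz g x) i = k - csz g x
        have h1 : ∑ i, dn a j (csz g x) i + csz g x = ∑ i, a i := by
          unfold dn
          rw [← Finset.add_sum_erase _ _ (mem_univ j), ← Finset.add_sum_erase _ a (mem_univ j),
            Function.update_self]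
          rw [Finset.sum_congr rfl (g := a)]
          · generalize ∑ x ∈ univ.erase j, a x = c
            omega
          · intro i hi
            rw [Function.update_of_ne (Finset.ne_of_mem_erase hi)]
        omega
      · intro a _
        unfold up dn
        simp
      · intro a ha
        rw [Finset.mem_filter] at ha
        unfold up dn
        simp only [Function.update_self, Function.update_idem]
        rw [Nat.sub_add_cancel ha.2, Function.update_eq_self]
      · intro a _
        congr 1
        · congr 2
          funext i
          unfold up
          by_cases h : i = j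
          · subst h; simp; ring
          · rw [Function.update_of_ne h, Function.update_of_ne h]
        · congr 2
          unfold up dn
          simp

end Cfsg.Agent.H886.Spin
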