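import Cfsg.Agent.H886.Spin.Skew
import Cfsg.Agent.H614.CycSum

/-!
# Orthogonality of the functions `Q`
-/

set_option autoImplicit false

namespace Cfsg.Agent.H886.Spin

open Finset Cfsg.Agent.H614

/-! ### rational versions -/

def fq (m : ℕ) : ℚ := fc m
def cq (m : ℕ) : ℚ := cc m
def oq (m : ℕ) : ℚ := 2 * (od m : ℚ)
def sq (a : ℤ) : ℚ := sg a

theorem sq_add (a b : ℤ) : sq (a + b) = sq a * sq b := by unfold sq; rw [sg_add]; push_cast; rfl
theorem sq_neg (a : ℤ) : sq (-a) = sq a := by unfold sq; rw [sg_neg]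
theorem sq_mul_self (a : ℤ) : sq a * sq a = 1 := by
  unfold sq; rw [← Int.cast_mul, sg_mul_self]; rfl
theorem sq_zero : sq 0 = 1 := by unfold sq; rw [sg_zero]; rfl

theorem cq_log (m : ℕ) : (m : ℚ) * cq m = ∑ p ∈ antidiagonal m, oq p.1 * cq p.2 := by
  have := congrArg (Int.cast : ℤ → ℚ) (cc_log m)
  push_cast at this
  exact this

theorem fq_eq (m : ℕ) : fq m = sq m * cq m := by
  unfold fq sq cq; rw [fc_eq]; push_cast; rfl

theorem Op_fq_eq (m : ℕ) (φ : List ℤ → ℚ) (L : List ℤ) :
    Op fq m φ L = sq m * Op cq m φ L :=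
  Op_twist (e := fun k => sq k) sq_zero (fun a b => by push_cast; exact sq_add _ _) fq_eq m φ L

/-- `Q s` as a rational function. -/
def QQ (s : Multiset ℕ) (L : List ℤ) : ℚ := Q s L

theorem QQ_cons (r : ℕ) (s : Multiset ℕ) (L : List ℤ) : QQ (r ::ₘ s) L = P r (QQ s) L := by
  unfold QQ; rw [Q_cons, P_cast]

/-- The weight of a cycle type. -/
def wt (s : Multiset ℕ) : ℚ := if ∀ i ∈ s, Odd i then 2 ^ Multiset.card s else 0

theorem wt_cons (r : ℕ) (s : Multiset ℕ) : wt (r ::ₘ s) = oq r * wt s := by
  unfold wt oq od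
  simp only [Multiset.mem_cons, forall_eq_or_imp, Multiset.card_cons, pow_succ]
  by_cases h1 : Odd r
  · by_cases h2 : ∀ i ∈ s, Odd i
    · rw [if_pos ⟨h1, h2⟩, if_pos h1, if_pos h2]; push_cast; ring
    · rw [if_neg (fun h => h2 h.2), if_neg h2]; simp
  · rw [if_neg (fun h => h1 h.1), if_neg h1]; simp

theorem oq_zero : oq 0 = 0 := by simp [oq, od]

/-- The scalar product. -/
def W (γ β : List ℤ) : ℚ :=
  if 0 ≤ β.sum then Z β.sum.toNat (fun s => wt s * QQ s γ * QQ s β) else 0

theorem W_neg {γ β : List ℤ} (h : β.sum < 0) : W γ β = 0 := by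
  unfold W; rw [if_neg (by omega)]

theorem P_Z (r n : ℕ) (f : Multiset ℕ → List ℤ → ℚ) (L : List ℤ) :
    P r (fun L => Z n (fun s => f s L)) L = Z n (fun s => P r (f s) L) := by
  unfold Z
  have : (fun L : List ℤ => ∑ ν : n.Partition, f ν.parts L / zz ν.parts) =
      fun L => ∑ ν : n.Partition, (1 / (zz ν.parts : ℚ)) * f ν.parts L := by
    funext L; exact Finset.sum_congr rfl fun ν _ => by ring
  rw [this, P_sum_mul]
  exact Finset.sum_congr rfl fun ν _ => by ring

theorem W_rec (N : ℕ) {γ β : List ℤ} (h : β.sum < N) :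
    (β.sum : ℚ) * W γ β = ∑ r ∈ range N, oq r * P r (fun γ' => P r (W γ') β) γ := by
  by_cases h0 : 0 ≤ β.sum
  · obtain ⟨n, hn⟩ : ∃ n : ℕ, β.sum = n := ⟨β.sum.toNat, by omega⟩
    have h1 : W γ β = Z n (fun s => wt s * QQ s γ * QQ s β) := by
      unfold W; rw [if_pos h0, hn]; simp
    have h2 : (β.sum : ℚ) = n := by rw [hn]; simp
    rw [h1, h2, Z_rec]
    have h3 : ∀ r ∈ Finset.Icc 1 n, Z (n - r) (fun s => wt (r ::ₘ s) * QQ (r ::ₘ s) γ *
        QQ (r ::ₘ s) β) = oq r * P r (fun γ' => P r (W γ') β) γ := by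
      intro r hr
      rw [Finset.mem_Icc] at hr
      have h4 : ∀ γ' : List ℤ, P r (W γ') β =
          Z (n - r) (fun s => wt s * QQ s γ' * P r (QQ s) β) := by
        intro γ'
        rw [P_congr_sum (ψ := fun β' => Z (n - r) (fun s => wt s * QQ s γ' * QQ s β')), P_Z]
        · refine Z_congr fun s _ _ => ?_
          rw [P_smul]
        · intro β' _ hs
          unfold W
          rw [if_pos (by omega)]
          congr 1; omega
      rw [funext h4, P_Z, ← Z_smul]
      refine Z_congr fun s _ _ => ?_
      rw [wt_cons, QQ_cons, QQ_cons]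
      have h5 : (fun γ' => wt s * QQ s γ' * P r (QQ s) β) =
          fun γ' => (wt s * P r (QQ s) β) * QQ s γ' := by
        funext γ'; ring
      rw [h5, P_smul]; ring
    rw [Finset.sum_congr rfl h3]
    refine Finset.sum_subset ?_ ?_
    · intro r hr
      rw [Finset.mem_Icc] at hr
      rw [Finset.mem_range]; omega
    · intro r _ hr
      rw [Finset.mem_Icc] at hr
      by_cases hr0 : r = 0
      · rw [hr0, oq_zero, zero_mul]
      · have h4 : ∀ γ' : List ℤ, P r (W γ') β = 0 := by
          intro γ'
          rw [P_congr_sum (ψ := fun _ => 0), P_zero_fun]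
          intro β' _ hs
          exact W_neg (by omega)
        rw [funext h4, P_zero_fun, mul_zero]
  · rw [W_neg (by omega), mul_zero]
    symm
    refine Finset.sum_eq_zero fun r _ => ?_
    have h4 : ∀ γ' : List ℤ, P r (W γ') β = 0 := by
      intro γ'
      rw [P_congr_sum (ψ := fun _ => 0), P_zero_fun]
      intro β' _ hs
      exact W_neg (by omega)
    rw [funext h4, P_zero_fun, mul_zero]

/-- `Op` with an integer index, rational values. -/
def OZ (m : ℤ) (φ : List ℤ → ℚ) (L : List ℤ) : ℚ :=
  if 0 ≤ m then Op fq m.toNat φ L else 0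

theorem OZ_congr {m : ℤ} {φ ψ : List ℤ → ℚ} {L : List ℤ}
    (h : ∀ L' : List ℤ, L'.length = L.length → φ L' = ψ L') : OZ m φ L = OZ m ψ L := by
  unfold OZ; split_ifs
  · exact Op_congr h
  · rfl

theorem OZ_zero_fun (m : ℤ) (L : List ℤ) : OZ m (fun _ => 0) L = 0 := by
  unfold OZ; split_ifs
  · exact Op_zero_fun _ _ _
  · rfl

theorem OZ_add (m : ℤ) (φ ψ : List ℤ → ℚ) (L : List ℤ) :
    OZ m (fun L => φ L + ψ L) L = OZ m φ L + OZ m ψ L := by
  unfold OZ; split_ifs
  · exact Op_add _ _ _ _ _
  · simp

theorem OZ_smul (m : ℤ) (c : ℚ) (φ : List ℤ → ℚ) (L : List ℤ) :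
    OZ m (fun L => c * φ L) L = c * OZ m φ L := by
  unfold OZ; split_ifs
  · exact Op_smul _ _ _ _ _
  · simp

theorem OZ_sum_mul {ι : Type*} (m : ℤ) (s : Finset ι) (c : ι → ℚ)
    (φ : ι → List ℤ → ℚ) (L : List ℤ) :
    OZ m (fun L => ∑ i ∈ s, c i * φ i L) L = ∑ i ∈ s, c i * OZ m (φ i) L := by
  unfold OZ; split_ifs
  · exact Op_sum_mul _ _ _ _ _ _
  · simp

theorem P_OZ_comm (r : ℕ) (m : ℤ) (φ : List ℤ → ℚ) (L : List ℤ) :
    P r (OZ m φ) L = OZ m (P r φ) L := by
  by_cases h : 0 ≤ m
  · have e1 : OZ m φ = Op fq m.toNat φ := by funext L; unfold OZ; rw [if_pos h]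
    rw [e1, P_Op_comm]; unfold OZ; rw [if_pos h]
  · have e1 : OZ m φ = fun _ => 0 := by funext L; unfold OZ; rw [if_neg h]
    rw [e1, P_zero_fun]; unfold OZ; rw [if_neg h]

/-- The right hand side of the row formula. -/
def Y (N : ℕ) (g : ℤ) (γ β : List ℤ) : ℚ :=
  ∑ m ∈ range N, OZ (m - g) (fun γ' => Op cq m (W γ') β) γ

theorem C_W_neg {m : ℕ} {γ β : List ℤ} (h : β.sum < m) : Op cq m (W γ) β = 0 := by
  rw [Op_congr_sum (ψ := fun _ => 0), Op_zero_fun]
  intro β' _ hs
  exact W_neg (by omega)

/-- Interchanging the order of operators acting on the two arguments. -/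
theorem P_Op_exchange (r m : ℕ) (w : ℕ → ℚ) (X : List ℤ → List ℤ → ℚ) (γ β : List ℤ) :
    P r (fun γ' => Op w m (X γ') β) γ = Op w m (fun β' => P r (fun γ' => X γ' β') γ) β := by
  induction γ generalizing X with
  | nil => simp only [P_nil]; rw [Op_zero_fun]
  | cons a γ ih =>
    simp only [P_cons]
    rw [Op_add, ← ih]

theorem P_P_exchange (r s : ℕ) (X : List ℤ → List ℤ → ℚ) (γ β : List ℤ) :
    P r (fun γ' => P s (X γ') β) γ = P s (fun β' => P r (fun γ' => X γ' β') γ) β := by
  induction γ generalizing X with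
  | nil => simp only [P_nil]; rw [P_zero_fun]
  | cons a γ ih =>
    simp only [P_cons]
    rw [P_add, ← ih]

theorem P_OZ_exchange (r : ℕ) (m : ℤ) (X : List ℤ → List ℤ → ℚ) (γ β : List ℤ) :
    P r (fun β' => OZ m (fun γ' => X γ' β') γ) β = OZ m (fun γ' => P r (X γ') β) γ := by
  unfold OZ
  split_ifs
  · exact P_Op_exchange r m.toNat fq (fun β' γ' => X γ' β') β γ
  · exact P_zero_fun _ _

theorem Op_Op_exchange (v w : ℕ → ℚ) (r m : ℕ) (X : List ℤ → List ℤ → ℚ) (γ β : List ℤ) :
    Op v r (fun γ' => Op w m (X γ') β) γ = Op w m (fun β' => Op v r (fun γ' => X γ' β') γ) β := by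
  induction γ generalizing r X with
  | nil =>
    simp only [Op_nil]
    split_ifs
    · rfl
    · rw [Op_zero_fun]
  | cons a γ ih =>
    simp only [Op_cons]
    rw [Op_sum_mul]
    refine Finset.sum_congr rfl fun p _ => ?_
    rw [ih]

theorem sum_ad_range {N : ℕ} {h : ℕ → ℕ → ℚ} (h0 : ∀ r m, N ≤ r + m → h r m = 0) :
    ∑ M ∈ range N, ∑ p ∈ antidiagonal M, h p.1 p.2 = ∑ r ∈ range N, ∑ m ∈ range N, h r m := by
  rw [Finset.sum_sigma', ← Finset.sum_product']
  rw [← Finset.sum_filter_of_ne (s := range N ×ˢ range N) (p := fun x => x.1 + x.2 < N)]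
  swap
  · intro x _ hx
    by_contra hn
    exact hx (h0 _ _ (by omega))
  refine Finset.sum_bij' (i := fun x _ => x.2) (j := fun x _ => ⟨x.1 + x.2, x⟩) ?_ ?_ ?_ ?_ ?_
  · rintro ⟨M, a, b⟩ hx
    simp only [mem_sigma, mem_range, HasAntidiagonal.mem_antidiagonal, mem_filter,
      mem_product] at hx ⊢
    omega
  · rintro ⟨a, b⟩ hx
    simp only [mem_sigma, mem_range, HasAntidiagonal.mem_antidiagonal, mem_filter,
      mem_product] at hx ⊢
    exact ⟨by omega, trivial⟩
  · rintro ⟨M, a, b⟩ hx
    simp only [mem_sigma, mem_range, HasAntidiagonal.mem_antidiagonal] at hx ⊢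
    obtain ⟨_, h2⟩ := hx; subst h2; rfl
  · rintro ⟨a, b⟩ hx; rfl
  · rintro ⟨M, a, b⟩ hx; rfl

theorem W_row (N : ℕ) (n : ℕ) (hn : n ≤ N) : ∀ (β : List ℤ), β.sum < n → ∀ (g : ℤ) (γ : List ℤ),
    W (g :: γ) β = Y N g γ β := by
  induction n with
  | zero =>
    intro β hβ g γ
    rw [W_neg (by exact_mod_cast hβ)]
    unfold Y
    symm
    refine Finset.sum_eq_zero fun m _ => ?_
    rw [OZ_congr (ψ := fun _ => 0) (fun γ' _ => C_W_neg (by push_cast at hβ; omega)), OZ_zero_fun]
  | succ n ih =>
    intro β hβ g γ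
    by_cases hlt : β.sum < n
    · exact ih (by omega) β hlt g γ
    have hsum : β.sum = n := by push_cast at hβ; omega
    by_cases hn0 : n = 0
    · -- the sum is zero
      subst hn0
      have hW : ∀ γ' : List ℤ, W γ' β = (K γ' : ℚ) * K β := by
        intro γ'
        unfold W
        rw [if_pos (by omega), hsum]
        simp only [Nat.cast_zero, Int.toNat_zero]
        rw [Z_zero_eq]
        simp [wt, QQ, Q_zero]
      unfold Y
      rw [Finset.sum_eq_single 0]
      · rw [hW]
        have h1 : ∀ γ' : List ℤ, Op cq 0 (W γ') β = (K β : ℚ) * K γ' := by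
          intro γ'
          have : ∀ (X : List ℤ → ℚ) (L : List ℤ), Op cq 0 X L = X L := by
            intro X L
            induction L generalizing X with
            | nil => simp [Op_nil]
            | cons b L ih =>
              rw [Op_cons]
              rw [show antidiagonal 0 = ({(0, 0)} : Finset (ℕ × ℕ)) from rfl, Finset.sum_singleton]
              rw [ih]; simp [cq, cc]
          rw [this, hW]; ring
        rw [OZ_congr (fun γ' _ => h1 γ'), OZ_smul, K_cons]
        have h2 : OZ ((0 : ℕ) - g) (fun γ' => (K γ' : ℚ)) γ = ((OpZ fc (-g) K γ : ℤ) : ℚ) := by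
          unfold OZ OpZ
          simp only [Nat.cast_zero, zero_sub]
          split_ifs
          · rw [Op_cast]; rfl
          · simp
        rw [h2]; ring
      · intro m _ hm
        rw [OZ_congr (ψ := fun _ => 0) (fun γ' _ => C_W_neg (by omega)), OZ_zero_fun]
      · intro h; exfalso; apply h; rw [Finset.mem_range]; omega
    · -- main case
      have hnq : (n : ℚ) ≠ 0 := by exact_mod_cast hn0
      have hsq : (β.sum : ℚ) = n := by rw [hsum]; simp
      refine mul_left_cancel₀ hnq ?_
      have hL : (n : ℚ) * W (g :: γ) β =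
          ∑ r ∈ range N, oq r * (∑ m ∈ range N,
            OZ (m - (g - r)) (fun γ' => Op cq m (P r (W γ')) β) γ) +
          ∑ r ∈ range N, oq r * (∑ m ∈ range N,
            OZ (m - g) (P r (fun γ' => Op cq m (P r (W γ')) β)) γ) := by
        have h1 := W_rec N (γ := g :: γ) (β := β) (by omega)
        rw [hsq] at h1
        rw [h1, ← Finset.sum_add_distrib]
        refine Finset.sum_congr rfl fun r hr => ?_
        by_cases hr0 : r = 0
        · subst hr0; rw [oq_zero]; simp
        · rw [← mul_add]
          congr 1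
          rw [P_cons]
          congr 1
          · rw [P_congr_sum (ψ := Y N (g - r) γ)
              (fun β' _ hs => ih (by omega) β' (by omega) _ _)]
            unfold Y
            rw [P_sum]
            refine Finset.sum_congr rfl fun m _ => ?_
            rw [P_OZ_exchange r _ (fun γ' β' => Op cq m (W γ') β')]
            exact OZ_congr fun γ' _ => P_Op_comm _ _ _ _ _
          · have h2 : ∀ γ' : List ℤ, P r (W (g :: γ')) β = P r (Y N g γ') β := fun γ' =>
              P_congr_sum (fun β' _ hs => ih (by omega) β' (by omega) _ _)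
            rw [funext h2]
            have h3 : ∀ γ' : List ℤ, P r (Y N g γ') β =
                ∑ m ∈ range N, OZ (m - g) (fun γ'' => Op cq m (P r (W γ'')) β) γ' := by
              intro γ'
              unfold Y
              rw [P_sum]
              refine Finset.sum_congr rfl fun m _ => ?_
              rw [P_OZ_exchange r _ (fun γ' β' => Op cq m (W γ') β')]
              exact OZ_congr fun γ' _ => P_Op_comm _ _ _ _ _
            rw [funext h3, P_sum]
            refine Finset.sum_congr rfl fun m _ => ?_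
            rw [P_OZ_comm]
      rw [hL]
      -- the right hand side
      have hR : ∀ m ∈ range N, (n : ℚ) * OZ (m - g) (fun γ' => Op cq m (W γ') β) γ =
          ∑ p ∈ antidiagonal m, oq p.1 *
            OZ ((p.1 : ℤ) + p.2 - g) (fun γ' => Op cq p.2 (P p.1 (W γ')) β) γ +
          ∑ r ∈ range N, oq r * OZ (m - g) (P r (fun γ' => Op cq m (P r (W γ')) β)) γ := by
        intro m _
        have h1 : (n : ℚ) * OZ (m - g) (fun γ' => Op cq m (W γ') β) γ =
            OZ (m - g) (fun γ' => (m : ℚ) * Op cq m (W γ') β) γ +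
            OZ (m - g) (fun γ' => ((n : ℚ) - m) * Op cq m (W γ') β) γ := by
          rw [OZ_smul, OZ_smul]; ring
        rw [h1]
        congr 1
        · rw [OZ_congr (fun γ' _ => Op_log cq_log m (W γ') β), OZ_sum_mul]
          refine Finset.sum_congr rfl fun p hp => ?_
          rw [HasAntidiagonal.mem_antidiagonal] at hp
          rw [← hp]; push_cast; rfl
        · have h2 : ∀ γ' : List ℤ, ((n : ℚ) - m) * Op cq m (W γ') β =
              ∑ r ∈ range N, oq r * P r (fun γ'' => Op cq m (P r (W γ'')) β) γ' := by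
            intro γ'
            rw [← Op_smul]
            rw [Op_congr_sum (ψ := fun β' => ∑ r ∈ range N, oq r *
              P r (fun γ'' => P r (W γ'') β') γ')]
            · rw [Op_sum_mul]
              refine Finset.sum_congr rfl fun r _ => ?_
              rw [P_Op_exchange r m cq (fun γ'' => P r (W γ''))]
            · intro β' _ hs
              have h3 := W_rec N (γ := γ') (β := β') (by omega)
              rw [← h3, hs, hsum]; push_cast; rfl
          rw [OZ_congr (fun γ' _ => h2 γ'), OZ_sum_mul]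
      unfold Y
      rw [Finset.mul_sum, Finset.sum_congr rfl hR, Finset.sum_add_distrib]
      congr 1
      · rw [sum_ad_range (h := fun r m => oq r *
          OZ ((r : ℤ) + m - g) (fun γ' => Op cq m (P r (W γ')) β) γ)]
        · refine Finset.sum_congr rfl fun r _ => ?_
          rw [Finset.mul_sum]
          refine Finset.sum_congr rfl fun m _ => ?_
          congr 2; ring
        · intro r m hrm
          rw [OZ_congr (ψ := fun _ => 0), OZ_zero_fun, mul_zero]
          intro γ' _
          rw [Op_congr_sum (ψ := fun _ => 0), Op_zero_fun]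
          intro β' _ hs
          rw [P_congr_sum (ψ := fun _ => 0), P_zero_fun]
          intro β'' _ hs'
          exact W_neg (by omega)
      · simp only [Finset.mul_sum]
        rw [Finset.sum_comm]

/-! ### symmetry, transfer rule -/

theorem W_eq_zero_of_ne {γ β : List ℤ} (h : γ.sum ≠ β.sum) : W γ β = 0 := by
  unfold W
  split_ifs with h0
  · rw [Z_congr (g := fun _ => 0 * 0)]
    · rw [Z_smul, zero_mul]
    · intro s hs _
      unfold QQ
      rw [Q_sum (s := s) (L := γ)]
      · simp
      · rw [hs]; omega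
  · rfl

theorem W_comm (γ β : List ℤ) : W γ β = W β γ := by
  by_cases h : γ.sum = β.sum
  · unfold W
    rw [h]
    split_ifs
    · exact Z_congr fun s _ _ => by ring
    · rfl
  · rw [W_eq_zero_of_ne h, W_eq_zero_of_ne (Ne.symm h)]

theorem OZ_natCast (m : ℕ) (φ : List ℤ → ℚ) (L : List ℤ) : OZ m φ L = Op fq m φ L := by
  unfold OZ; simp

theorem W_transfer (g : ℤ) (γ β : List ℤ) : W (g :: γ) β = sq g * W γ ((-g) :: β) := by
  obtain ⟨N, hN1, hN2, hN3⟩ : ∃ N : ℕ, β.sum < N ∧ γ.sum < N ∧ g.natAbs < N := by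
    refine ⟨β.sum.toNat + γ.sum.toNat + g.natAbs + 1, ?_, ?_, ?_⟩ <;> omega
  rw [W_comm γ, W_row N N le_rfl β hN1, W_row N N le_rfl γ hN2]
  -- the terms
  let D : ℕ → ℕ → ℚ := fun k m => Op cq m (fun γ' => Op cq k (W γ') β) γ
  have hD : ∀ k m : ℕ, (N ≤ k ∨ N ≤ m) → D k m = 0 := by
    intro k m h
    rcases h with h | h
    · show Op cq m (fun γ' => Op cq k (W γ') β) γ = 0
      rw [Op_congr (ψ := fun _ => 0), Op_zero_fun]
      intro γ' _
      exact C_W_neg (by omega)
    · show Op cq m (fun γ' => Op cq k (W γ') β) γ = 0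
      rw [Op_congr_sum (ψ := fun _ => 0), Op_zero_fun]
      intro γ' _ hs
      rw [Op_congr_sum (ψ := fun _ => 0), Op_zero_fun]
      intro β' _ _
      rw [W_comm]
      exact W_neg (by omega)
  have h1 : ∀ m ∈ range N, OZ (m - g) (fun γ' => Op cq m (W γ') β) γ =
      ∑ k ∈ range N, if (m : ℤ) = k + g then sq k * D m k else 0 := by
    intro m _
    by_cases h0 : 0 ≤ (m : ℤ) - g
    · obtain ⟨k, hk⟩ : ∃ k : ℕ, (m : ℤ) - g = k := ⟨((m : ℤ) - g).toNat, by omega⟩
      have h3 : OZ (m - g) (fun γ' => Op cq m (W γ') β) γ = sq k * D m k := by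
        rw [hk, OZ_natCast, Op_fq_eq]
      rw [h3]
      by_cases hkN : k < N
      · rw [Finset.sum_eq_single k]
        · rw [if_pos (by omega)]
        · intro k' _ hk'
          rw [if_neg (by omega)]
        · intro h; exfalso; apply h; rw [Finset.mem_range]; exact hkN
      · rw [hD _ _ (Or.inr (by omega)), mul_zero]
        symm
        refine Finset.sum_eq_zero fun k' hk' => ?_
        rw [Finset.mem_range] at hk'
        rw [if_neg (by omega)]
    · rw [OZ, if_neg h0]
      symm
      refine Finset.sum_eq_zero fun k' hk' => ?_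
      rw [if_neg (by omega)]
  have h2 : ∀ m ∈ range N, OZ (m - -g) (fun β' => Op cq m (W β') γ) β =
      ∑ k ∈ range N, if (k : ℤ) = m + g then sq k * D k m else 0 := by
    intro m _
    have e : ∀ k : ℕ, Op cq k (fun β' => Op cq m (W β') γ) β = D k m := by
      intro k
      show _ = Op cq m (fun γ' => Op cq k (W γ') β) γ
      rw [Op_Op_exchange cq cq k m W β γ]
      refine Op_congr fun γ' _ => Op_congr fun β' _ => ?_
      rw [W_comm]
    by_cases h0 : 0 ≤ (m : ℤ) - -g
    · obtain ⟨k, hk⟩ : ∃ k : ℕ, (m : ℤ) - -g = k := ⟨((m : ℤ) - -g).toNat, by omega⟩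
      have h3 : OZ (m - -g) (fun β' => Op cq m (W β') γ) β = sq k * D k m := by
        rw [hk, OZ_natCast, Op_fq_eq, e]
      rw [h3]
      by_cases hkN : k < N
      · rw [Finset.sum_eq_single k]
        · rw [if_pos (by omega)]
        · intro k' _ hk'
          rw [if_neg (by omega)]
        · intro h; exfalso; apply h; rw [Finset.mem_range]; exact hkN
      · rw [hD _ _ (Or.inl (by omega)), mul_zero]
        symm
        refine Finset.sum_eq_zero fun k' hk' => ?_
        rw [Finset.mem_range] at hk'
        rw [if_neg (by omega)]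
    · rw [OZ, if_neg h0]
      symm
      refine Finset.sum_eq_zero fun k' hk' => ?_
      rw [if_neg (by omega)]
  unfold Y
  rw [Finset.sum_congr rfl h1, Finset.sum_congr rfl h2, Finset.sum_comm, Finset.mul_sum]
  refine Finset.sum_congr rfl fun m _ => ?_
  rw [Finset.mul_sum]
  refine Finset.sum_congr rfl fun k _ => ?_
  by_cases h : (k : ℤ) = m + g
  · rw [if_pos h, if_pos h]
    have : sq k = sq m * sq g := by rw [h, sq_add]
    rw [this]
    linear_combination -(sq m * D k m) * sq_mul_self g
  · rw [if_neg h, if_neg h, mul_zero]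

/-! ### rules for `W` in the second argument -/

theorem W_skew (γ β₁ : List ℤ) (a b : ℤ) (β₂ : List ℤ) :
    W γ (β₁ ++ a :: b :: β₂) + W γ (β₁ ++ b :: a :: β₂) =
      2 * sq a * (if a + b = 0 then W γ (β₁ ++ β₂) else 0) := by
  have e1 : (β₁ ++ b :: a :: β₂).sum = (β₁ ++ a :: b :: β₂).sum := by
    simp only [List.sum_append, List.sum_cons]; ring
  unfold W
  rw [e1]
  by_cases h0 : 0 ≤ (β₁ ++ a :: b :: β₂).sum
  · rw [if_pos h0, if_pos h0, ← Z_add]
    have key : ∀ s : Multiset ℕ, wt s * QQ s γ * QQ s (β₁ ++ a :: b :: β₂) +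
        wt s * QQ s γ * QQ s (β₁ ++ b :: a :: β₂) =
        2 * sq a * (if a + b = 0 then wt s * QQ s γ * QQ s (β₁ ++ β₂) else 0) := by
      intro s
      by_cases hs : ∀ i ∈ s, Odd i
      · have := congrArg (Int.cast : ℤ → ℚ) (Q_skewAt hs _ _ β₁ β₂ a b rfl rfl)
        push_cast at this
        rw [← mul_add]
        have h2 : QQ s (β₁ ++ a :: b :: β₂) + QQ s (β₁ ++ b :: a :: β₂) =
            2 * sq a * (if a + b = 0 then QQ s (β₁ ++ β₂) else 0) := this
        rw [h2]
        split_ifs <;> ring
      · have : wt s = 0 := by unfold wt; rw [if_neg hs]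
        simp [this]
    rw [Z_congr fun s _ _ => key s, Z_smul]
    congr 1
    by_cases hab : a + b = 0
    · have e2 : (β₁ ++ β₂).sum = (β₁ ++ a :: b :: β₂).sum := by
        simp only [List.sum_append, List.sum_cons]; omega
      rw [e2]
      simp only [hab, if_true]
      rw [if_pos h0]
    · simp only [hab, if_false]
      have := Z_smul (β₁ ++ a :: b :: β₂).sum.toNat 0 (fun _ => 0)
      simpa using this
  · rw [if_neg h0, if_neg h0]
    by_cases hab : a + b = 0
    · have e2 : (β₁ ++ β₂).sum = (β₁ ++ a :: b :: β₂).sum := by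
        simp only [List.sum_append, List.sum_cons]; omega
      rw [e2, if_neg h0]; simp
    · simp [hab]

theorem W_append_neg (γ β : List ℤ) {b : ℤ} (hb : b < 0) : W γ (β ++ [b]) = 0 := by
  unfold W
  split_ifs
  · rw [Z_congr (g := fun _ => 0 * 0)]
    · rw [Z_smul, zero_mul]
    · intro s _ hpos
      unfold QQ
      rw [(Q_vanAt hpos _ β rfl).1 b hb]; simp
  · rfl

/-- Moving a negative entry to the end, no cancellation. -/
theorem W_move_of_notMem (γ : List ℤ) {g : ℤ} (hg : 0 < g) (β₂ : List ℤ) (h : g ∉ β₂) :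
    ∀ β₁ : List ℤ, W γ (β₁ ++ (-g) :: β₂) = 0 := by
  induction β₂ with
  | nil => intro β₁; exact W_append_neg γ β₁ (by omega)
  | cons b β₂ ih =>
    intro β₁
    rw [List.mem_cons, not_or] at h
    have h1 := W_skew γ β₁ (-g) b β₂
    rw [if_neg (by omega), mul_zero] at h1
    have h2 := ih h.2 (β₁ ++ [b])
    rw [List.append_assoc, List.singleton_append] at h2
    rw [h2] at h1
    linarith

/-- Moving a negative entry to the end, general case. -/
theorem W_move_of_mem (γ : List ℤ) {g : ℤ} (hg : 0 < g) (β₂ : List ℤ) (hnd : β₂.Nodup) (h : g ∈ β₂) :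
    ∀ β₁ : List ℤ, ∃ c : ℚ, W γ (β₁ ++ (-g) :: β₂) = c * W γ (β₁ ++ β₂.erase g) := by
  induction β₂ with
  | nil => simp at h
  | cons b β₂ ih =>
    intro β₁
    have h1 := W_skew γ β₁ (-g) b β₂
    rw [List.nodup_cons] at hnd
    by_cases hb : b = g
    · subst hb
      refine ⟨2 * sq b, ?_⟩
      rw [if_pos (by omega), sq_neg] at h1
      have h2 := W_move_of_notMem γ hg β₂ hnd.1 (β₁ ++ [b])
      rw [List.append_assoc, List.singleton_append] at h2
      rw [List.erase_cons_head]
      linarith
    · have h3 : g ∈ β₂ := by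
        rcases List.mem_cons.mp h with h | h
        · exact absurd h.symm hb
        · exact h
      obtain ⟨c, hc⟩ := ih hnd.2 h3 (β₁ ++ [b])
      rw [List.append_assoc, List.append_assoc, List.singleton_append, List.singleton_append] at hc
      refine ⟨-c, ?_⟩
      rw [if_neg (by omega), mul_zero] at h1
      rw [List.erase_cons_tail (by simpa using hb)]
      linarith

/-- Strictly decreasing lists of positive integers. -/
def Strict' (L : List ℤ) : Prop := L.Pairwise (fun a b => b < a) ∧ ∀ a ∈ L, 0 < a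

theorem Strict'.tail {a : ℤ} {L : List ℤ} (h : Strict' (a :: L)) : Strict' L :=
  ⟨(List.pairwise_cons.mp h.1).2, fun b hb => h.2 b (List.mem_cons_of_mem _ hb)⟩

theorem Strict'.erase {L : List ℤ} (h : Strict' L) (g : ℤ) : Strict' (L.erase g) :=
  ⟨h.1.sublist List.erase_sublist, fun b hb => h.2 b (List.mem_of_mem_erase hb)⟩

theorem Strict'.nodup {L : List ℤ} (h : Strict' L) : L.Nodup :=
  h.1.imp (fun hab => ne_of_gt hab)

theorem Strict'.sum_nonneg {L : List ℤ} (h : Strict' L) : 0 ≤ L.sum :=
  List.sum_nonneg fun a ha => (h.2 a ha).le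

/-- Orthogonality of the strict tuples. -/
theorem W_strict {γ β : List ℤ} (hγ : Strict' γ) (hβ : Strict' β) :
    W γ β = if γ = β then 2 ^ γ.length else 0 := by
  induction γ generalizing β with
  | nil =>
    cases β with
    | nil =>
      rw [if_pos rfl]
      unfold W
      simp only [List.sum_nil, le_refl, if_true, Int.toNat_zero, List.length_nil, pow_zero]
      rw [Z_zero_eq]
      simp [wt, QQ, Q_zero, K_nil]
    | cons b β =>
      rw [if_neg (by simp)]
      apply W_eq_zero_of_ne
      have h1 := hβ.2 b (List.mem_cons_self)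
      have h2 := hβ.tail.sum_nonneg
      rw [List.sum_nil, List.sum_cons]; omega
  | cons g γ ih =>
    have hg : 0 < g := hγ.2 g (List.mem_cons_self)
    rw [W_transfer]
    by_cases hmem : g ∈ β
    · cases β with
      | nil => simp at hmem
      | cons b β =>
        by_cases hb : b = g
        · subst hb
          have h1 := W_skew γ [] (-b) b β
          rw [if_pos (by omega), sq_neg] at h1
          have hnd := hβ.nodup
          rw [List.nodup_cons] at hnd
          have h2 := W_move_of_notMem γ hg β hnd.1 [b]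
          simp only [List.nil_append, List.singleton_append] at h1 h2
          rw [h2, add_zero, ih hγ.tail hβ.tail] at h1
          rw [h1]
          by_cases he : γ = β
          · subst he
            simp only [if_true, List.length_cons, pow_succ]
            linear_combination (2 * 2 ^ γ.length : ℚ) * sq_mul_self b
          · rw [if_neg he, if_neg (by simpa using he)]; ring
        · rw [if_neg (by intro h; rw [List.cons.injEq] at h; exact hb h.1.symm)]
          obtain ⟨c, hc⟩ := W_move_of_mem γ hg (b :: β) hβ.nodup hmem []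
          simp only [List.nil_append] at hc
          rw [hc, ih hγ.tail (hβ.erase g), if_neg]
          · ring
          · intro he
            rw [List.erase_cons_tail (by simpa using hb)] at he
            have h3 : b ∈ γ := by rw [he]; exact List.mem_cons_self
            have h4 : b < g := (List.pairwise_cons.mp hγ.1).1 b h3
            have h5 : g ∈ β := by
              rcases List.mem_cons.mp hmem with h | h
              · exact absurd h.symm hb
              · exact h
            have h6 : g < b := (List.pairwise_cons.mp hβ.1).1 g h5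
            omega
    · have h1 := W_move_of_notMem γ hg β hmem []
      simp only [List.nil_append] at h1
      rw [h1, mul_zero, if_neg]
      rintro rfl
      exact hmem (List.mem_cons_self)

end Cfsg.Agent.H886.Spin
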