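import Cfsg.Agent.H886.Spin.Core

/-!
# The functions `K` and `Q s`; skew rule
-/

set_option autoImplicit false

namespace Cfsg.Agent.H886.Spin

open Finset

/-- `Op` with an integer index. -/
def OpZ (w : ℕ → ℤ) (m : ℤ) (φ : List ℤ → ℤ) (L : List ℤ) : ℤ :=
  if 0 ≤ m then Op w m.toNat φ L else 0

theorem OpZ_natCast (w : ℕ → ℤ) (m : ℕ) (φ : List ℤ → ℤ) (L : List ℤ) :
    OpZ w m φ L = Op w m φ L := by simp [OpZ]

theorem OpZ_neg {w : ℕ → ℤ} {m : ℤ} (h : m < 0) (φ : List ℤ → ℤ) (L : List ℤ) :
    OpZ w m φ L = 0 := by simp [OpZ, h]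

def Kn : ℕ → List ℤ → ℤ
  | 0, _ => 1
  | _ + 1, [] => 1
  | n + 1, a :: L => OpZ fc (-a) (Kn n) L

/-- The coefficient of `t^β` in `∏_{i<j} (1 - t_j/t_i)/(1 + t_j/t_i)`. -/
def K (L : List ℤ) : ℤ := Kn L.length L

theorem K_nil : K [] = 1 := rfl

theorem K_cons (a : ℤ) (L : List ℤ) : K (a :: L) = OpZ fc (-a) K L := by
  show OpZ fc (-a) (Kn L.length) L = _
  unfold OpZ
  split_ifs
  · refine Op_congr fun L' hL' => ?_
    unfold K; rw [hL']
  · rfl

theorem K_sum {L : List ℤ} : L.sum ≠ 0 → K L = 0 := by
  obtain ⟨n, hn⟩ : ∃ n, n = L.length := ⟨_, rfl⟩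
  induction n generalizing L with
  | zero =>
    rw [List.length_eq_zero_iff.mp hn.symm]; simp
  | succ n ih =>
    cases L with
    | nil => simp at hn
    | cons a L =>
      intro h
      rw [K_cons, OpZ]
      split_ifs with h0
      · rw [Op_congr_sum (ψ := fun _ => 0), Op_zero_fun]
        intro L' hL' hs
        apply ih
        · simp at hn; omega
        · rw [hs]; rw [List.sum_cons] at h; omega
      · rfl

theorem K_head_pos {a : ℤ} (h : 0 < a) (L : List ℤ) : K (a :: L) = 0 := by
  rw [K_cons, OpZ_neg (by omega)]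

/-- `fc` extended by zero. -/
def fz (x : ℤ) : ℤ := if 0 ≤ x then fc x.toNat else 0

theorem fz_add_neg (x : ℤ) : fz x + fz (-x) = 2 * sg x := by
  unfold fz fc
  rcases lt_trichotomy x 0 with h | h | h
  · rw [if_neg (by omega), if_pos (by omega), if_neg (by omega)]
    rw [Int.toNat_of_nonneg (by omega), sg_neg]; ring
  · subst h; simp [sg_zero]
  · rw [if_pos (by omega), if_neg (by omega), if_neg (by omega)]
    rw [Int.toNat_of_nonneg (by omega)]; ring

theorem K_cons_cons (a b : ℤ) (L : List ℤ) :
    K (a :: b :: L) = if a + b ≤ 0 then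
      ∑ p ∈ antidiagonal (-a - b).toNat, fz (p.2 + b) * Op fc p.1 (Op fc p.2 K) L else 0 := by
  rw [K_cons, OpZ]
  by_cases ha : a ≤ 0
  · rw [if_pos (by omega), Op_cons]
    have h1 : ∀ p ∈ antidiagonal (-a).toNat,
        fc p.1 * Op fc p.2 (fun L' => K ((b - p.1) :: L')) L =
        if b ≤ p.1 then fc p.1 * Op fc p.2 (Op fc (p.1 - b).toNat K) L else 0 := by
      intro p _
      split_ifs with hb
      · congr 1
        refine Op_congr fun L' _ => ?_
        rw [K_cons, OpZ, if_pos (by omega)]
        congr 1; congr 1; omega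
      · rw [Op_congr (ψ := fun _ => 0), Op_zero_fun, mul_zero]
        intro L' _
        rw [K_cons, OpZ_neg (by omega)]
    rw [Finset.sum_congr rfl h1, ← Finset.sum_filter]
    by_cases hab : a + b ≤ 0
    · rw [if_pos hab]
      have h2 : ∀ p ∈ antidiagonal (-a - b).toNat,
          fz (p.2 + b) * Op fc p.1 (Op fc p.2 K) L =
          if 0 ≤ p.2 + b then fc (p.2 + b).toNat * Op fc p.1 (Op fc p.2 K) L else 0 := by
        intro p _
        unfold fz
        split_ifs <;> simp
      rw [Finset.sum_congr rfl h2, ← Finset.sum_filter]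
      refine Finset.sum_bij' (i := fun p _ => (p.2, (p.1 - b).toNat))
        (j := fun q _ => ((q.2 + b).toNat, q.1)) ?_ ?_ ?_ ?_ ?_
      · rintro ⟨c, d⟩ h
        simp only [mem_filter, HasAntidiagonal.mem_antidiagonal] at h ⊢
        omega
      · rintro ⟨c, d⟩ h
        simp only [mem_filter, HasAntidiagonal.mem_antidiagonal] at h ⊢
        omega
      · rintro ⟨c, d⟩ h
        simp only [mem_filter, HasAntidiagonal.mem_antidiagonal] at h ⊢
        ext <;> simp only <;> omega
      · rintro ⟨c, d⟩ h
        simp only [mem_filter, HasAntidiagonal.mem_antidiagonal] at h ⊢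
        ext <;> simp only <;> omega
      · rintro ⟨c, d⟩ h
        simp only [mem_filter, HasAntidiagonal.mem_antidiagonal] at h ⊢
        congr 2; omega
    · rw [if_neg hab]
      refine Finset.sum_eq_zero fun p hp => ?_
      simp only [mem_filter, HasAntidiagonal.mem_antidiagonal] at hp
      omega
  · rw [if_neg (by omega)]
    split_ifs with hab
    · symm
      refine Finset.sum_eq_zero fun p hp => ?_
      rw [HasAntidiagonal.mem_antidiagonal] at hp
      rw [fz, if_neg (by omega), zero_mul]
    · rfl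

theorem K_head_skew (a b : ℤ) (L : List ℤ) :
    K (a :: b :: L) + K (b :: a :: L) = 2 * sg a * (if a + b = 0 then K L else 0) := by
  rw [K_cons_cons a b, K_cons_cons b a]
  by_cases hab : a + b ≤ 0
  · rw [if_pos hab, if_pos (by omega)]
    have hN : (-b - a).toNat = (-a - b).toNat := by congr 1; ring
    rw [hN]
    rw [← Finset.Nat.sum_antidiagonal_swap (n := (-a - b).toNat)
      (f := fun p => fz (p.2 + a) * Op fc p.1 (Op fc p.2 K) L), ← Finset.sum_add_distrib]
    have h1 : ∀ p ∈ antidiagonal (-a - b).toNat,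
        fz (p.2 + b) * Op fc p.1 (Op fc p.2 K) L +
          fz (p.swap.2 + a) * Op fc p.swap.1 (Op fc p.swap.2 K) L =
        2 * sg b * Op fc p.1 (Op cc p.2 K) L := by
      rintro ⟨c, d⟩ hp
      rw [HasAntidiagonal.mem_antidiagonal] at hp
      simp only [Prod.swap] at hp ⊢
      rw [Op_comm fc fc d c]
      have h2 : ((c : ℤ) + a) = -(d + b) := by omega
      rw [h2, ← add_mul, fz_add_neg]
      have h3 : Op fc c (Op fc d K) L = sg d * Op fc c (Op cc d K) L := by
        rw [← Op_smul]
        exact Op_congr fun L' _ => Op_fc_eq _ _ _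
      rw [h3, sg_add]
      linear_combination (2 * sg b * Op fc c (Op cc d K) L) * sg_mul_self d
    rw [Finset.sum_congr rfl h1, ← Finset.mul_sum, Op_fc_cc]
    by_cases h0 : a + b = 0
    · rw [if_pos (by omega), if_pos h0]
      have : b = -a := by omega
      rw [this, sg_neg]
    · rw [if_neg (by omega), if_neg h0]; simp
  · rw [if_neg hab, if_neg (by omega), if_neg (by omega)]; simp

/-- The skew rule at a given position. -/
def SkewAt (k l : ℕ) (X : List ℤ → ℤ) : Prop :=
  ∀ (L₁ L₂ : List ℤ) (a b : ℤ), L₁.length = k → L₂.length = l →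
    X (L₁ ++ a :: b :: L₂) + X (L₁ ++ b :: a :: L₂) =
      2 * sg a * (if a + b = 0 then X (L₁ ++ L₂) else 0)

theorem SkewAt.tail {k l : ℕ} {X : List ℤ → ℤ} (h : SkewAt (k + 1) l X) (c : ℤ) :
    SkewAt k l (fun L => X (c :: L)) := by
  intro L₁ L₂ a b h1 h2
  exact h (c :: L₁) L₂ a b (by simp [h1]) h2

theorem SkewAt.P {k l : ℕ} {X : List ℤ → ℤ} (h : SkewAt k l X) {r : ℕ} (hr : Odd r) :
    SkewAt k l (P r X) := by
  intro L₁ L₂ a b h1 h2
  induction L₁ generalizing k X with
  | nil =>
    simp only [List.nil_append, P_cons]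
    have e1 := h [] L₂ (a - r) b h1 h2
    have e2 := h [] L₂ a (b - r) h1 h2
    simp only [List.nil_append] at e1 e2
    have e3 : Spin.P r (fun L' => X (a :: b :: L')) L₂ + Spin.P r (fun L' => X (b :: a :: L')) L₂ =
        2 * sg a * (if a + b = 0 then Spin.P r X L₂ else 0) := by
      rw [← P_add]
      have : Spin.P r (fun L => X (a :: b :: L) + X (b :: a :: L)) L₂ =
          Spin.P r (fun L => 2 * sg a * (if a + b = 0 then X L else 0)) L₂ := by
        refine P_congr_sum fun L' hL' _ => ?_
        have := h [] L' a b h1 (by rw [hL', h2])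
        simpa using this
      rw [this]
      by_cases h0 : a + b = 0
      · simp only [h0, if_true]
        rw [P_smul]
      · simp only [h0, if_false, mul_zero]
        rw [P_zero_fun]
    have hs : sg (a - r) = - sg a := by
      rw [sg_sub, sg_odd (a := (r : ℤ)) (by exact_mod_cast hr)]; ring
    rw [hs] at e1
    have h4 : (a - r + b = 0) ↔ (a + (b - r) = 0) := by constructor <;> intro h <;> omega
    simp only [h4] at e1
    linear_combination e1 + e2 + e3
  | cons c L₁ ih =>
    obtain ⟨k', rfl⟩ : ∃ k', k = k' + 1 := ⟨L₁.length, by simpa using h1.symm⟩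
    simp only [List.cons_append, P_cons]
    have e1 := h ((c - r) :: L₁) L₂ a b (by simpa using h1) h2
    have e2 := ih (h.tail c) (by simpa using h1)
    simp only [List.cons_append] at e1
    by_cases h0 : a + b = 0
    · simp only [h0, if_true] at e1 e2 ⊢
      linear_combination e1 + e2
    · simp only [h0, if_false] at e1 e2 ⊢
      linear_combination e1 + e2

theorem SkewAt.Op {k l : ℕ} {X : List ℤ → ℤ} (h : SkewAt k l X) (m : ℕ) :
    SkewAt k l (Op fc m X) := by
  intro L₁ L₂ a b h1 h2
  induction L₁ generalizing k X m with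
  | nil =>
    simp only [List.nil_append, Op_cons, Finset.mul_sum]
    have e1 := tri m (fun c d e => fc c * (fc d * Spin.Op fc e
      (fun L' => X ((a - ↑c) :: (b - ↑d) :: L')) L₂))
    have e2 := tri m (fun d c e => fc d * (fc c * Spin.Op fc e
      (fun L' => X ((b - ↑d) :: (a - ↑c) :: L')) L₂))
    rw [e1, e2, ← Finset.sum_add_distrib]
    have e3 : ∀ p ∈ antidiagonal m,
        (∑ q ∈ antidiagonal p.1, fc q.1 * (fc q.2 * Spin.Op fc p.2
          (fun L' => X ((a - ↑q.1) :: (b - ↑q.2) :: L')) L₂)) +
        (∑ q ∈ antidiagonal p.1, fc q.1 * (fc q.2 * Spin.Op fc p.2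
          (fun L' => X ((b - ↑q.1) :: (a - ↑q.2) :: L')) L₂)) =
        if p.1 = 0 then (2 * sg a * (if a + b = 0 then Spin.Op fc p.2 X L₂ else 0)) else 0 := by
      intro p _
      rw [← Finset.Nat.sum_antidiagonal_swap (n := p.1) (f := fun q => fc q.1 * (fc q.2 *
        Spin.Op fc p.2 (fun L' => X ((b - ↑q.1) :: (a - ↑q.2) :: L')) L₂)),
        ← Finset.sum_add_distrib]
      have e4 : ∀ q ∈ antidiagonal p.1,
          fc q.1 * (fc q.2 * Spin.Op fc p.2
            (fun L' => X ((a - ↑q.1) :: (b - ↑q.2) :: L')) L₂) +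
          fc q.swap.1 * (fc q.swap.2 * Spin.Op fc p.2
            (fun L' => X ((b - ↑q.swap.1) :: (a - ↑q.swap.2) :: L')) L₂) =
          (cc q.1 * fc q.2) * (2 * sg a *
            (if a + b = p.1 then Spin.Op fc p.2 X L₂ else 0)) := by
        rintro ⟨c, d⟩ hq
        rw [HasAntidiagonal.mem_antidiagonal] at hq
        simp only [Prod.swap] at hq ⊢
        have e5 : Spin.Op fc p.2 (fun L' => X ((a - ↑c) :: (b - ↑d) :: L')) L₂ +
            Spin.Op fc p.2 (fun L' => X ((b - ↑d) :: (a - ↑c) :: L')) L₂ =
            2 * (sg a * sg c) * (if a + b = p.1 then Spin.Op fc p.2 X L₂ else 0) := by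
          rw [← Op_add]
          have : Spin.Op fc p.2 (fun L => X ((a - ↑c) :: (b - ↑d) :: L) +
              X ((b - ↑d) :: (a - ↑c) :: L)) L₂ =
              Spin.Op fc p.2 (fun L => 2 * (sg a * sg c) *
                (if a + b = p.1 then X L else 0)) L₂ := by
            refine Op_congr fun L' hL' => ?_
            have := h [] L' (a - c) (b - d) h1 (by rw [hL', h2])
            simp only [List.nil_append] at this
            rw [this, sg_sub]
            have h4 : (a - ↑c + (b - ↑d) = 0) ↔ (a + b = p.1) := by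
              constructor <;> intro h <;> omega
            simp only [h4]
          rw [this]
          by_cases h0 : a + b = p.1
          · simp only [h0, if_true]
            rw [Op_smul]
          · simp only [h0, if_false, mul_zero]
            rw [Op_zero_fun]
        have e6 : fc c = sg c * cc c := fc_eq c
        rw [e6]
        linear_combination (sg c * cc c * fc d) * e5 + (2 * sg a * cc c * fc d *
          (if a + b = p.1 then Spin.Op fc p.2 X L₂ else 0)) * sg_mul_self c
      rw [Finset.sum_congr rfl e4, ← Finset.sum_mul]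
      rw [← Finset.Nat.sum_antidiagonal_swap (n := p.1) (f := fun q => cc q.1 * fc q.2)]
      simp only [Prod.swap]
      have e7 : ∑ x ∈ antidiagonal p.1, cc x.2 * fc x.1 = if p.1 = 0 then 1 else 0 := by
        rw [← fc_mul_cc]
        exact Finset.sum_congr rfl fun x _ => mul_comm _ _
      rw [e7]
      by_cases hp : p.1 = 0
      · rw [if_pos hp, if_pos hp, hp]; simp
      · rw [if_neg hp, if_neg hp]; simp
    rw [Finset.sum_congr rfl e3, ← Finset.sum_filter]
    rw [Finset.sum_eq_single (0, m)]
    · rintro ⟨c, d⟩ hp1 hp2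
      exfalso; apply hp2
      rw [mem_filter, HasAntidiagonal.mem_antidiagonal] at hp1
      obtain ⟨hp1, hp3⟩ := hp1
      simp only at hp1 hp3
      subst hp3; simp at hp1; subst hp1; rfl
    · intro h; exfalso; apply h; simp
  | cons c L₁ ih =>
    obtain ⟨k', rfl⟩ : ∃ k', k = k' + 1 := ⟨L₁.length, by simpa using h1.symm⟩
    simp only [List.cons_append, Op_cons]
    rw [← Finset.sum_add_distrib]
    have e1 : ∀ p ∈ antidiagonal m,
        fc p.1 * Spin.Op fc p.2 (fun L' => X ((c - ↑p.1) :: L')) (L₁ ++ a :: b :: L₂) +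
        fc p.1 * Spin.Op fc p.2 (fun L' => X ((c - ↑p.1) :: L')) (L₁ ++ b :: a :: L₂) =
        2 * sg a * (if a + b = 0 then
          fc p.1 * Spin.Op fc p.2 (fun L' => X ((c - ↑p.1) :: L')) (L₁ ++ L₂) else 0) := by
      intro p _
      have := ih (h.tail (c - p.1)) p.2 (by simpa using h1)
      rw [← mul_add, this]
      split_ifs <;> ring
    rw [Finset.sum_congr rfl e1, ← Finset.mul_sum]
    congr 1
    split_ifs
    · rfl
    · simp

theorem K_skewAt (k l : ℕ) : SkewAt k l K := by
  induction k with
  | zero =>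
    intro L₁ L₂ a b h1 h2
    rw [List.length_eq_zero_iff.mp h1]
    exact K_head_skew a b L₂
  | succ k ih =>
    intro L₁ L₂ a b h1 h2
    cases L₁ with
    | nil => simp at h1
    | cons c L₁ =>
      simp only [List.cons_append, K_cons, OpZ]
      split_ifs with h3 h4
      · have := ih.Op (-c).toNat L₁ L₂ a b (by simpa using h1) h2
        rw [if_pos h4] at this
        exact this
      · have := ih.Op (-c).toNat L₁ L₂ a b (by simpa using h1) h2
        rw [if_neg h4] at this
        exact this
      · simp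
      · simp

/-! ### vanishing rules -/

/-- Vanishing for a negative last entry, and zero last entries may be omitted. -/
def VanAt (k : ℕ) (X : List ℤ → ℤ) : Prop :=
  ∀ (L : List ℤ), L.length = k → (∀ b < 0, X (L ++ [b]) = 0) ∧ X (L ++ [0]) = X L

theorem VanAt.tail {k : ℕ} {X : List ℤ → ℤ} (h : VanAt (k + 1) X) (c : ℤ) :
    VanAt k (fun L => X (c :: L)) := by
  intro L h1
  exact h (c :: L) (by simp [h1])

theorem VanAt.P {k : ℕ} {X : List ℤ → ℤ} (h : VanAt k X) {r : ℕ} (hr : 0 < r) :
    VanAt k (P r X) := by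
  intro L h1
  induction L generalizing k X with
  | nil =>
    obtain ⟨h2, h3⟩ := h [] h1
    simp only [List.nil_append, P_cons, P_nil] at h2 h3 ⊢
    refine ⟨fun b hb => ?_, ?_⟩
    · rw [h2 _ (by omega)]; simp
    · rw [h2 _ (by omega)]; simp
  | cons c L ih =>
    obtain ⟨k', rfl⟩ : ∃ k', k = k' + 1 := ⟨L.length, by simpa using h1.symm⟩
    simp only [List.cons_append, P_cons]
    obtain ⟨h2, h3⟩ := h ((c - r) :: L) (by simpa using h1)
    obtain ⟨h4, h5⟩ := ih (h.tail c) (by simpa using h1)
    refine ⟨fun b hb => ?_, ?_⟩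
    · have := h2 b hb
      simp only [List.cons_append] at this
      rw [this, h4 b hb]; simp
    · simp only [List.cons_append] at h3
      rw [h3, h5]

theorem VanAt.Op {k : ℕ} {X : List ℤ → ℤ} (h : VanAt k X) {w : ℕ → ℤ} (hw : w 0 = 1) (m : ℕ) :
    VanAt k (Op w m X) := by
  intro L h1
  induction L generalizing k X m with
  | nil =>
    obtain ⟨h2, h3⟩ := h [] h1
    simp only [List.nil_append, Op_cons, Op_nil] at h2 h3 ⊢
    refine ⟨fun b hb => ?_, ?_⟩
    · refine Finset.sum_eq_zero fun p _ => ?_
      rw [h2 _ (by omega)]; simp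
    · rw [Finset.sum_eq_single (0, m)]
      · simp [hw, h3]
      · rintro ⟨c, d⟩ hp hne
        rw [HasAntidiagonal.mem_antidiagonal] at hp
        have : c ≠ 0 := by
          rintro rfl; apply hne; simp at hp; simp [hp]
        simp only
        rw [h2 _ (by omega)]; simp
      · intro h; exfalso; apply h; simp
  | cons c L ih =>
    obtain ⟨k', rfl⟩ : ∃ k', k = k' + 1 := ⟨L.length, by simpa using h1.symm⟩
    simp only [List.cons_append, Op_cons]
    refine ⟨fun b hb => ?_, ?_⟩
    · refine Finset.sum_eq_zero fun p _ => ?_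
      rw [(ih (h.tail (c - p.1)) p.2 (by simpa using h1)).1 b hb]; simp
    · refine Finset.sum_congr rfl fun p _ => ?_
      rw [(ih (h.tail (c - p.1)) p.2 (by simpa using h1)).2]

theorem fc_zero : fc 0 = 1 := rfl
theorem cc_zero : cc 0 = 1 := rfl

theorem K_vanAt (k : ℕ) : VanAt k K := by
  induction k with
  | zero =>
    intro L h
    rw [List.length_eq_zero_iff.mp h]
    refine ⟨fun b hb => ?_, ?_⟩
    · apply K_sum; simp; omega
    · rfl
  | succ k ih =>
    intro L h
    cases L with
    | nil => simp at h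
    | cons c L =>
      simp only [List.cons_append, K_cons, OpZ]
      split_ifs with h3
      · exact ih.Op fc_zero _ L (by simpa using h)
      · exact ⟨fun _ _ => rfl, rfl⟩

/-! ### the functions `Q s` -/

instance : LeftCommutative (P (R := ℤ)) := ⟨fun r s φ => funext fun L => P_comm r s φ L⟩

/-- The coefficient of the Schur function `Q_β` at the power sums with parts `s` (up to the
normalisation `2^{ℓ(s)}/z_s`), for an arbitrary integer tuple `β`. -/
def Q (s : Multiset ℕ) : List ℤ → ℤ := s.foldr P K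

theorem Q_zero : Q 0 = K := Multiset.foldr_zero _ _

theorem Q_cons (r : ℕ) (s : Multiset ℕ) : Q (r ::ₘ s) = P r (Q s) := Multiset.foldr_cons _ _ _ _

theorem Q_sum {s : Multiset ℕ} {L : List ℤ} : L.sum ≠ s.sum → Q s L = 0 := by
  induction s using Multiset.induction_on generalizing L with
  | empty => intro h; rw [Q_zero]; apply K_sum; simpa using h
  | cons r s ih =>
    intro h
    rw [Q_cons, P_congr_sum (ψ := fun _ => 0), P_zero_fun]
    intro L' _ hs
    apply ih
    rw [hs]; rw [Multiset.sum_cons] at h; push_cast at h ⊢; omega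

theorem Q_skewAt {s : Multiset ℕ} (hs : ∀ i ∈ s, Odd i) (k l : ℕ) : SkewAt k l (Q s) := by
  induction s using Multiset.induction_on with
  | empty => rw [Q_zero]; exact K_skewAt k l
  | cons r s ih =>
    rw [Q_cons]
    exact (ih fun i hi => hs i (Multiset.mem_cons_of_mem hi)).P (hs r (Multiset.mem_cons_self _ _))

theorem Q_vanAt {s : Multiset ℕ} (hs : ∀ i ∈ s, 0 < i) (k : ℕ) : VanAt k (Q s) := by
  induction s using Multiset.induction_on with
  | empty => rw [Q_zero]; exact K_vanAt k
  | cons r s ih =>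
    rw [Q_cons]
    exact (ih fun i hi => hs i (Multiset.mem_cons_of_mem hi)).P (hs r (Multiset.mem_cons_self _ _))

end Cfsg.Agent.H886.Spin
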