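import Cfsg.Agent.H886.Spin.Expand
import Cfsg.Agent.Lib.SchurRational

/-!
# `b * X (type) L` is divisible by a power of 2 (S4578)
-/

set_option autoImplicit false
set_option linter.unusedSectionVars false

namespace Cfsg.Agent.H886.Spin

open Finset Cfsg Cfsg.Agent.H614 Cfsg.Agent.H614.Spin Cfsg.Agent.Characters

theorem isGeneralizedCharacter_sum {G : Type*} [Group G] {ι : Type*} (s : Finset ι)
    {f : ι → G → ℂ} (h : ∀ i ∈ s, IsGeneralizedCharacter G (f i)) :
    IsGeneralizedCharacter G (∑ i ∈ s, f i) := by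
  classical
  induction s using Finset.induction_on with
  | empty => simp only [Finset.sum_empty]; exact Brauer.isGeneralizedCharacter_zero
  | insert a s ha ih =>
    rw [Finset.sum_insert ha]
    exact Brauer.isGeneralizedCharacter_add (h a (Finset.mem_insert_self _ _))
      (ih fun i hi => h i (Finset.mem_insert_of_mem hi))

theorem countP_ofFn {m : ℕ} (p : ℤ → Bool) (f : Fin m → ℤ) :
    (List.ofFn f).countP p = #{j | p (f j) = true} := by
  induction m with
  | zero => simp
  | succ m ih =>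
    rw [List.ofFn_succ, List.countP_cons, ih]
    rw [Finset.card_filter, Finset.card_filter, Fin.sum_univ_succ]
    rw [add_comm]

/-- `V (β - a)` times the power of 2 of the permutation character. -/
theorem V_two_pow {m : ℕ} {β : Fin m → ℤ} (hβ : ∀ j, 0 < β j) (a : Fin m → ℕ) (d : ℕ) :
    (2 : ℤ) ^ ((m + d) / 2) ∣ V (List.ofFn (fun j => β j - a j)) *
      2 ^ ((#{j | a j ≠ 0} + d) / 2) := by
  have h1 := two_pow_dvd_V (List.ofFn (fun j => β j - (a j : ℤ)))
  have h2 : m ≤ (List.ofFn (fun j => β j - (a j : ℤ))).countP (fun x => 0 < x) +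
      #{j | a j ≠ 0} := by
    rw [countP_ofFn]
    have h3 : (univ : Finset (Fin m)) ⊆
        ({j | decide (0 < β j - (a j : ℤ)) = true} : Finset (Fin m)) ∪
          ({j | a j ≠ 0} : Finset (Fin m)) := by
      intro j _
      rw [Finset.mem_union, Finset.mem_filter, Finset.mem_filter]
      by_cases h : a j = 0
      · left
        refine ⟨mem_univ _, ?_⟩
        rw [h]; simpa using hβ j
      · right; exact ⟨mem_univ _, h⟩
    have h4 := Finset.card_le_card h3
    have h5 := Finset.card_union_le ({j | decide (0 < β j - (a j : ℤ)) = true} : Finset (Fin m))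
      ({j | a j ≠ 0} : Finset (Fin m))
    rw [Finset.card_univ, Fintype.card_fin] at h4
    omega
  have h6 : #{j | a j ≠ 0} ≤ m := by
    have := Finset.card_filter_le (univ : Finset (Fin m)) (fun j => a j ≠ 0)
    rwa [Finset.card_univ, Fintype.card_fin] at this
  refine (pow_dvd_pow 2 ?_).trans (show (2 : ℤ) ^
    ((List.ofFn (fun j => β j - (a j : ℤ))).countP (fun x => 0 < x) + (#{j | a j ≠ 0} + d) / 2) ∣ _
    from by rw [pow_add]; exact mul_dvd_mul_right h1 _)
  omega

/-- From the divisibility of `b * cnt` to the divisibility of `b * X`. -/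
theorem exists_theta {n : ℕ} {G : Type*} [Group G] (Q : G → Equiv.Perm (Fin n)) (b : G → ℂ)
    (d : ℕ) (hdiv : ∀ (m : ℕ) (a : Fin m → ℕ), ∑ j, a j = n → ∃ θ : G → ℂ, IsCharacter G θ ∧
      ∀ x, b x * cnt (Q x) a = 2 ^ ((#{j | a j ≠ 0} + d) / 2) * θ x)
    {L : List ℤ} (hL : ∀ a ∈ L, 0 < a) :
    ∃ θ : G → ℂ, IsGeneralizedCharacter G θ ∧
      ∀ x, b x * (X (ty (Q x)) L : ℂ) = 2 ^ ((L.length + d) / 2) * θ x := by
  classical
  obtain ⟨m, β, rfl⟩ : ∃ (m : ℕ) (β : Fin m → ℤ), L = List.ofFn β :=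
    ⟨L.length, L.get, by simp⟩
  have hβ : ∀ j, 0 < β j := fun j => hL _ (by simp)
  rw [List.length_ofFn]
  choose θ hθ1 hθ2 using fun a : {a : Fin m → ℕ // ∑ j, a j = n} => hdiv m a.1 a.2
  choose k hk using fun a : Fin m → ℕ => V_two_pow hβ a d
  refine ⟨∑ a ∈ (Finset.piAntidiag (univ : Finset (Fin m)) n).attach,
    k a.1 • θ ⟨a.1, (Finset.mem_piAntidiag.mp a.2).1⟩, ?_, ?_⟩
  · refine isGeneralizedCharacter_sum _ fun a _ => ?_
    exact Lib.SchurRational.isGeneralizedCharacter_zsmul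
      (Brauer.isGeneralizedCharacter_of_isCharacter (hθ1 _)) _
  · intro x
    rw [X_ofFn n (by simp) (Q x) β]
    push_cast
    rw [Finset.mul_sum, Finset.sum_apply, Finset.mul_sum, ← Finset.sum_attach]
    refine Finset.sum_congr rfl fun a _ => ?_
    have h1 := hθ2 ⟨a.1, (Finset.mem_piAntidiag.mp a.2).1⟩ x
    have h2 := congrArg (Int.cast : ℤ → ℂ) (hk a.1)
    push_cast at h2
    simp only [Pi.smul_apply, zsmul_eq_mul]
    have h3 : b x * ((V (List.ofFn (fun j => β j - (a.1 j : ℤ))) : ℂ) * (cnt (Q x) a.1 : ℂ)) =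
        (V (List.ofFn (fun j => β j - (a.1 j : ℤ))) : ℂ) * (b x * (cnt (Q x) a.1 : ℂ)) := by ring
    rw [h3, h1, ← mul_assoc, h2]
    ring

end Cfsg.Agent.H886.Spin
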